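import Mathlib.Algebra.Homology.HomotopyCategory.HomComplexSingle
import Mathlib.Algebra.Homology.ShortComplex.Ab
import Mathlib.Algebra.Homology.ShortComplex.HomologicalComplex
import Mathlib.Algebra.Homology.Embedding.Extend
import Mathlib.Algebra.Category.Grp.Abelian

/-!
# The homology of `Hom(P_•, M)` and cohomology classes
-/

set_option autoImplicit false

universe v u

open CategoryTheory Limits CochainComplex.HomComplex

noncomputable section

namespace K311.HomCech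

/-- A description of the homology of a short complex of abelian groups. -/
theorem nonempty_homology_iso (S : ShortComplex AddCommGrpCat.{v}) (G : Type v) [AddCommGroup G]
    (ψ : AddMonoidHom.ker S.g.hom →+ G) (hψ : Function.Surjective ψ)
    (hker : ∀ z, ψ z = 0 ↔ ∃ y : S.X₁, S.f y = z.1) :
    Nonempty (S.homology ≅ AddCommGrpCat.of G) := by
  have h : ψ.ker = AddMonoidHom.range S.abToCycles := by
    ext z
    rw [AddMonoidHom.mem_ker, hker, AddMonoidHom.mem_range]
    refine exists_congr fun y => ?_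
    rw [Subtype.ext_iff]
    rfl
  exact ⟨S.abHomologyIso ≪≫ AddEquiv.toAddCommGrpIso
    ((QuotientAddGroup.quotientAddEquivOfEq h.symm).trans
      (QuotientAddGroup.quotientKerEquivOfSurjective ψ hψ))⟩

section

variable {A : Type u} [Category.{v} A] [Preadditive A] [HasZeroObject A]
  (P : ChainComplex A ℕ) (M : A)

/-- The complex `P` in nonpositive degrees. -/
abbrev ext : CochainComplex A ℤ := P.extend ComplexShape.embeddingDownNat

/-- The components. -/
def xIso (p : ℕ) : (ext P).X (-(p : ℤ)) ≅ P.X p :=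
  P.extendXIso ComplexShape.embeddingDownNat (i := p) rfl

lemma d_comp (p : ℕ) (i j : ℤ) (hi : i = -((p + 1 : ℕ) : ℤ)) (hj : j = -(p : ℤ)) :
    (ext P).d i j = eqToHom (by rw [hi]) ≫ (xIso P (p + 1)).hom ≫ P.d (p + 1) p ≫
      (xIso P p).inv ≫ eqToHom (by rw [hj]) := by
  subst hi hj
  simp only [eqToHom_refl, Category.comp_id, Category.id_comp]
  exact P.extend_d_eq ComplexShape.embeddingDownNat (i := p + 1) (j := p) rfl rfl

variable {P M} in
lemma hf {p : ℕ} {f : P.X p ⟶ M} (hf : P.d (p + 1) p ≫ f = 0) :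
    (ext P).d (-(p : ℤ) - 1) (-(p : ℤ)) ≫ (xIso P p).hom ≫ f = 0 := by
  rw [d_comp P p _ _ (by lia) rfl]
  simp [hf]

variable (D : CochainComplex AddCommGrpCat.{v} ℕ)
  (L : ∀ n, D.X n →+ (P.X n ⟶ M)) (hL : ∀ n, Function.Bijective (L n))
  (hd : ∀ n s, L (n + 1) (D.d n (n + 1) s) = P.d (n + 1) n ≫ L n s)

/-- The comparison map. -/
def ψ (p : ℕ) : AddMonoidHom.ker (D.d p (p + 1)).hom →+
    CohomologyClass (ext P) ((CochainComplex.singleFunctor A 0).obj M) p where
  toFun z := CohomologyClass.mk (Cocycle.toSingleMk ((xIso P p).hom ≫ L p z.1)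
    (by lia) (-(p : ℤ) - 1) (by lia) (hf (by
      rw [← hd]
      have : D.d p (p + 1) z.1 = 0 := z.2
      rw [this, map_zero])))
  map_zero' := by
    rw [CohomologyClass.mk_eq_zero_iff]
    have : ∀ (f : (ext P).X (-(p : ℤ)) ⟶ M) (hf : (ext P).d (-(p : ℤ) - 1) (-(p : ℤ)) ≫ f = 0),
      f = 0 → Cocycle.toSingleMk f (n := (p : ℤ)) (q := 0) (by lia) (-(p : ℤ) - 1) (by lia) hf ∈
        coboundaries _ _ _ := by
      rintro f hf rfl
      rw [Cocycle.toSingleMk_zero]
      exact AddSubgroup.zero_mem _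
    apply this
    simp
  map_add' z z' := by
    rw [← CohomologyClass.mk_add, ← Cocycle.toSingleMk_add]
    congr 2
    simp

lemma comp_eq_zero_iff {p : ℕ} (f : P.X p ⟶ M) :
    (ext P).d (-(p : ℤ) - 1) (-(p : ℤ)) ≫ (xIso P p).hom ≫ f = 0 ↔ P.d (p + 1) p ≫ f = 0 := by
  rw [d_comp P p _ _ (by lia) rfl]
  simp only [eqToHom_refl, Category.comp_id, Category.assoc, Iso.inv_hom_id_assoc]
  constructor
  · intro h
    rw [← cancel_epi (xIso P (p + 1)).hom, comp_zero]
    rw [← cancel_epi (eqToHom _), comp_zero]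
    exact h
  · intro h
    rw [h, comp_zero, comp_zero]

include hL in
lemma ψ_surjective (p : ℕ) : Function.Surjective (ψ P M D L hd p) := by
  intro x
  obtain ⟨α, rfl⟩ := x.mk_surjective
  obtain ⟨f, hf, rfl⟩ := Cocycle.toSingleMk_surjective α (-(p : ℤ)) (by lia) (-(p : ℤ) - 1) (by lia)
  obtain ⟨z, hz⟩ := (hL p).2 ((xIso P p).inv ≫ f)
  have hz2 : (xIso P p).hom ≫ L p z = f := by
    rw [hz, Iso.hom_inv_id_assoc]
  have hz' : P.d (p + 1) p ≫ L p z = 0 := by
    rw [← comp_eq_zero_iff, hz2]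
    exact hf
  refine ⟨⟨z, ?_⟩, ?_⟩
  · apply (hL (p + 1)).1
    rw [map_zero]
    exact (hd p z).trans hz'
  · change CohomologyClass.mk _ = _
    congr 2

lemma ψ_eq_zero_iff (p : ℕ) (z : AddMonoidHom.ker (D.d p (p + 1)).hom) :
    ψ P M D L hd p z = 0 ↔ ∃ (g : (ext P).X (-(p : ℤ) + 1) ⟶ M),
      (ext P).d (-(p : ℤ)) (-(p : ℤ) + 1) ≫ g = (xIso P p).hom ≫ L p z.1 := by
  refine (CohomologyClass.mk_eq_zero_iff _).trans ?_
  exact Cocycle.toSingleMk_mem_coboundaries_iff _ _ _ _ _ (-(p : ℤ) + 1) rfl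

include hL in
lemma ψ_eq_zero_iff_zero (z : AddMonoidHom.ker (D.d 0 (0 + 1)).hom) :
    ψ P M D L hd 0 z = 0 ↔ z.1 = 0 := by
  rw [ψ_eq_zero_iff]
  have h0 : IsZero ((ext P).X (-((0 : ℕ) : ℤ) + 1)) :=
    P.isZero_extend_X ComplexShape.embeddingDownNat _ (fun i hi => by
      simp [ComplexShape.embeddingDownNat] at hi
      lia)
  constructor
  · rintro ⟨g, hg⟩
    rw [h0.eq_zero_of_src g, comp_zero] at hg
    apply (hL 0).1
    rw [map_zero, ← cancel_epi (xIso P 0).hom, ← hg, comp_zero]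
  · intro h
    exact ⟨0, by rw [h, map_zero, comp_zero, comp_zero]⟩

include hL in
lemma ψ_eq_zero_iff_succ (p : ℕ) (z : AddMonoidHom.ker (D.d (p + 1) (p + 1 + 1)).hom) :
    ψ P M D L hd (p + 1) z = 0 ↔ ∃ y : D.X p, D.d p (p + 1) y = z.1 := by
  rw [ψ_eq_zero_iff]
  rw [d_comp P p (-((p + 1 : ℕ) : ℤ)) (-((p + 1 : ℕ) : ℤ) + 1) rfl (by lia)]
  simp only [eqToHom_refl, Category.id_comp, Category.assoc, cancel_epi]
  constructor
  · rintro ⟨g, hg⟩
    obtain ⟨y, hy⟩ := (hL p).2 ((xIso P p).inv ≫ eqToHom (by lia) ≫ g)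
    refine ⟨y, (hL (p + 1)).1 ?_⟩
    rw [hd, hy, hg]
  · rintro ⟨y, hy⟩
    refine ⟨eqToHom (by lia) ≫ (xIso P p).hom ≫ L p y, ?_⟩
    rw [← hy, hd]
    simp

include hL hd in
/-- The homology of `Hom(P_•, M)` is the group of cohomology classes. -/
theorem nonempty_iso (p : ℕ) :
    Nonempty (D.homology p ≅
      AddCommGrpCat.of (CohomologyClass (ext P) ((CochainComplex.singleFunctor A 0).obj M) p)) := by
  cases p with
  | zero =>
    obtain ⟨e⟩ := nonempty_homology_iso (D.sc' 0 0 (0 + 1)) _ (ψ P M D L hd 0)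
      (ψ_surjective P M D L hL hd 0) (fun z => by
        refine (ψ_eq_zero_iff_zero P M D L hL hd z).trans ?_
        change _ ↔ ∃ y, D.d 0 0 y = z.1
        rw [D.shape 0 0 (by simp)]
        constructor
        · intro h
          exact ⟨0, h.symm⟩
        · rintro ⟨y, hy⟩
          exact hy.symm)
    exact ⟨ShortComplex.homologyMapIso (D.isoSc' 0 0 (0 + 1) (by simp) (by simp)) ≪≫ e⟩
  | succ p =>
    obtain ⟨e⟩ := nonempty_homology_iso (D.sc' p (p + 1) (p + 1 + 1)) _ (ψ P M D L hd (p + 1))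
      (ψ_surjective P M D L hL hd (p + 1)) (fun z => ψ_eq_zero_iff_succ P M D L hL hd p z)
    exact ⟨ShortComplex.homologyMapIso (D.isoSc' p (p + 1) (p + 1 + 1) (by simp) (by simp)) ≪≫ e⟩

end

end K311.HomCech
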