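import Mathlib.AlgebraicTopology.CechNerve
import Mathlib.AlgebraicTopology.SimplicialObject.Coskeletal

/-!
# The Čech nerve of `X → *` is `n`-coskeletal for every `n`
-/

set_option autoImplicit false

universe v u

open CategoryTheory CategoryTheory.Limits Opposite Simplicial

namespace K311.CechCosk

variable {D : Type u} [Category.{v} D] [HasFiniteProducts D] (X : D)

/-- The projections of the terms of the Čech nerve. -/
noncomputable def proj (m : SimplexCategoryᵒᵖ) (i : Fin (m.unop.len + 1)) :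
    (cechNerveTerminalFrom X).obj m ⟶ X :=
  Pi.π (fun _ : Fin (m.unop.len + 1) => X) i

lemma map_proj {m m' : SimplexCategoryᵒᵖ} (f : m ⟶ m') (i : Fin (m'.unop.len + 1)) :
    (cechNerveTerminalFrom X).map f ≫ proj X m' i = proj X m (f.unop.toOrderHom i) :=
  limit.lift_π _ _

lemma map_const_proj (m : SimplexCategoryᵒᵖ) (i : Fin (m.unop.len + 1)) :
    (cechNerveTerminalFrom X).map (SimplexCategory.const ⦋0⦌ m.unop i).op ≫
      proj X (op ⦋0⦌) 0 = proj X m i :=
  map_proj X (SimplexCategory.const ⦋0⦌ m.unop i).op (0 : Fin 1)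

variable {X}

lemma obj_ext {T : D} {m : SimplexCategoryᵒᵖ} {a b : T ⟶ (cechNerveTerminalFrom X).obj m}
    (h : ∀ i, a ≫ proj X m i = b ≫ proj X m i) : a = b :=
  Pi.hom_ext (f := fun _ : Fin (m.unop.len + 1) => X) _ _ h

/-- The lift to a term of the Čech nerve. -/
noncomputable def objLift {T : D} {m : SimplexCategoryᵒᵖ} (a : Fin (m.unop.len + 1) → (T ⟶ X)) :
    T ⟶ (cechNerveTerminalFrom X).obj m :=
  Pi.lift a

lemma objLift_proj {T : D} {m : SimplexCategoryᵒᵖ} (a : Fin (m.unop.len + 1) → (T ⟶ X))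
    (i : Fin (m.unop.len + 1)) : objLift a ≫ proj X m i = a i :=
  Pi.lift_π _ _

lemma const_comp {m m' : SimplexCategory} (f : m ⟶ m') (i : Fin (m.len + 1)) :
    SimplexCategory.const ⦋0⦌ m i ≫ f = SimplexCategory.const ⦋0⦌ m' (f.toOrderHom i) := by
  ext
  rfl

/-- The map to the Čech nerve attached to a map in degree zero. -/
noncomputable def lift (G : SimplicialObject D) (g : G.obj (op ⦋0⦌) ⟶ X) : G ⟶ cechNerveTerminalFrom X where
  app m := objLift (fun i => G.map (SimplexCategory.const ⦋0⦌ m.unop i).op ≫ g)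
  naturality m m' f := by
    refine obj_ext (fun i => ?_)
    rw [Category.assoc, Category.assoc, map_proj, objLift_proj, objLift_proj,
      ← const_comp, op_comp, Quiver.Hom.op_unop, G.map_comp, Category.assoc]

lemma lift_app_proj (G : SimplicialObject D) (g : G.obj (op ⦋0⦌) ⟶ X) (m : SimplexCategoryᵒᵖ)
    (i : Fin (m.unop.len + 1)) :
    (lift G g).app m ≫ proj X m i =
      G.map (SimplexCategory.const ⦋0⦌ m.unop i).op ≫ g :=
  objLift_proj _ _

lemma hom_ext {G : SimplicialObject D} {φ ψ : G ⟶ cechNerveTerminalFrom X}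
    (h : φ.app (op ⦋0⦌) = ψ.app (op ⦋0⦌)) : φ = ψ := by
  ext m : 2
  refine obj_ext (fun i => ?_)
  rw [← map_const_proj X m i, ← NatTrans.naturality_assoc, ← NatTrans.naturality_assoc, h]

theorem isCoskeletal (X : D) (n : ℕ) : SimplicialObject.IsCoskeletal (cechNerveTerminalFrom X) n where
  isRightKanExtension := by
    let z : SimplexCategory.Truncated n := ⟨⦋0⦌, Nat.zero_le n⟩
    let L : ∀ E : (SimplexCategory.Truncated.inclusion n).op.RightExtension
        ((SimplexCategory.Truncated.inclusion n).op ⋙ cechNerveTerminalFrom X),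
      E.left ⟶ cechNerveTerminalFrom X := fun E =>
        lift E.left (E.hom.app (op z) ≫ proj X (op ⦋0⦌) 0)
    have hL : ∀ E, Functor.whiskerLeft (SimplexCategory.Truncated.inclusion n).op (L E) ≫ 𝟙 _ = E.hom := by
      intro E
      rw [Category.comp_id]
      ext m : 2
      refine obj_ext (m := op m.unop.obj) (fun i => ?_)
      refine (lift_app_proj _ _ (op m.unop.obj) i).trans ?_
      have h := E.hom.naturality (X := m) (Y := op z)
        (SimplexCategory.Truncated.Hom.tr (SimplexCategory.const ⦋0⦌ m.unop.obj i) (Nat.zero_le n) m.unop.2).op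
      have h' := congrArg (fun t => t ≫ proj X (op ⦋0⦌) 0) h
      refine (Category.assoc _ _ _).symm.trans (h'.trans ((Category.assoc _ _ _).trans ?_))
      exact congrArg (E.hom.app m ≫ ·) (map_const_proj X (op m.unop.obj) i)
    refine ⟨⟨IsTerminal.ofUniqueHom (fun E => CostructuredArrow.homMk (L E) (hL E)) ?_⟩⟩
    intro E m
    apply CostructuredArrow.hom_ext
    refine hom_ext ?_
    have h1 := NatTrans.congr_app (CostructuredArrow.w m) (op z)
    have h2 := NatTrans.congr_app (hL E) (op z)
    have h3 : (m.left.app (op ⦋0⦌)) ≫ 𝟙 _ = (L E).app (op ⦋0⦌) ≫ 𝟙 _ := h1.trans h2.symm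
    rwa [Category.comp_id, Category.comp_id] at h3

end K311.CechCosk
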