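import Mathlib.AlgebraicTopology.SimplicialObject.Homotopy

/-!
# Combinatorial homotopies from families indexed by simplices of the interval
-/

set_option autoImplicit false

universe v u

open CategoryTheory CategoryTheory.Limits Opposite Simplicial

namespace K311.HtpyFamily

/-- The simplex `⦋n + 1⦌ ⟶ ⦋1⦌` sending `j` to `0` iff `j ≤ i`. -/
def tt {n : ℕ} (i : Fin (n + 1)) : (⦋n + 1⦌ : SimplexCategory) ⟶ ⦋1⦌ :=
  SimplexCategory.Hom.mk ⟨fun j => if j.val ≤ i.val then 0 else 1, by
    intro a b hab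
    have h : a.val ≤ b.val := hab
    dsimp only
    split_ifs with h1 h2 h2
    · exact le_rfl
    · exact Fin.zero_le _
    · omega
    · exact le_rfl⟩

lemma tt_apply {n : ℕ} (i : Fin (n + 1)) (j : Fin (n + 2)) :
    (tt i).toOrderHom j = if j.val ≤ i.val then 0 else 1 := rfl

lemma hom_ext_one {m : SimplexCategory} {s t : m ⟶ ⦋1⦌}
    (h : ∀ j, s.toOrderHom j = t.toOrderHom j) : s = t := by
  ext j : 3
  exact h j

lemma δ_zero_tt (n : ℕ) : SimplexCategory.δ (0 : Fin (n + 2)) ≫ tt (0 : Fin (n + 1)) =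
    SimplexCategory.const ⦋n⦌ ⦋1⦌ 1 := by
  apply hom_ext_one
  intro j
  change (tt (0 : Fin (n + 1))).toOrderHom (Fin.succAbove 0 j) = 1
  rw [tt_apply, if_neg]
  simp

lemma δ_last_tt (n : ℕ) : SimplexCategory.δ (Fin.last (n + 1)) ≫ tt (Fin.last n) =
    SimplexCategory.const ⦋n⦌ ⦋1⦌ 0 := by
  apply hom_ext_one
  intro j
  change (tt (Fin.last n)).toOrderHom (Fin.succAbove (Fin.last (n + 1)) j) = 0
  rw [tt_apply, if_pos]
  have := j.isLt
  simp only [SimplexCategory.len_mk] at this
  simp only [Fin.succAbove_last, Fin.val_castSucc, Fin.val_last]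
  omega

lemma val_succAbove {n : ℕ} (i : Fin (n + 1)) (j : Fin n) :
    (i.succAbove j).val = if j.val < i.val then j.val else j.val + 1 := by
  rw [Fin.succAbove]
  by_cases h : j.castSucc < i
  · rw [if_pos h, if_pos (by exact h)]; rfl
  · rw [if_neg h, if_neg (by exact h)]; rfl

lemma val_predAbove {n : ℕ} (i : Fin n) (j : Fin (n + 1)) :
    (i.predAbove j).val = if i.val < j.val then j.val - 1 else j.val := by
  rw [Fin.predAbove]
  by_cases h : i.castSucc < j
  · rw [dif_pos h, if_pos (by exact h)]; rfl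
  · rw [dif_neg h, if_neg (by exact h)]; rfl

lemma δ_comp_apply {n : ℕ} (i : Fin (n + 2)) (t : (⦋n + 1⦌ : SimplexCategory) ⟶ ⦋1⦌) (j : Fin (n + 1)) :
    (SimplexCategory.δ i ≫ t).toOrderHom j = t.toOrderHom (i.succAbove j) := rfl

lemma σ_comp_apply {n : ℕ} (i : Fin (n + 1)) (t : (⦋n⦌ : SimplexCategory) ⟶ ⦋1⦌) (j : Fin (n + 2)) :
    (SimplexCategory.σ i ≫ t).toOrderHom j = t.toOrderHom (i.predAbove j) := rfl

lemma δ_castSucc_tt_succ {n : ℕ} (i : Fin (n + 2)) (j : Fin (n + 1)) (hij : i ≤ j.castSucc) :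
    SimplexCategory.δ i.castSucc ≫ tt j.succ = tt j := by
  apply hom_ext_one
  intro k
  rw [δ_comp_apply, tt_apply, tt_apply, val_succAbove]
  have h : i.val ≤ j.val := hij
  congr 1
  simp only [Fin.val_castSucc, Fin.val_succ]
  split_ifs <;> · apply propext; constructor <;> intro <;> omega

lemma δ_succ_tt_castSucc {n : ℕ} (i : Fin (n + 2)) (j : Fin (n + 1)) (hji : j.castSucc < i) :
    SimplexCategory.δ i.succ ≫ tt j.castSucc = tt j := by
  apply hom_ext_one
  intro k
  rw [δ_comp_apply, tt_apply, tt_apply, val_succAbove]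
  have h : j.val < i.val := hji
  congr 1
  simp only [Fin.val_castSucc, Fin.val_succ]
  split_ifs <;> · apply propext; constructor <;> intro <;> omega

lemma δ_tt_eq {n : ℕ} (j : Fin (n + 1)) :
    SimplexCategory.δ j.castSucc.succ ≫ tt j.succ = SimplexCategory.δ j.castSucc.succ ≫ tt j.castSucc := by
  apply hom_ext_one
  intro k
  rw [δ_comp_apply, δ_comp_apply, tt_apply, tt_apply, val_succAbove]
  congr 1
  simp only [Fin.val_castSucc, Fin.val_succ]
  split_ifs <;> · apply propext; constructor <;> intro <;> omega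

lemma σ_castSucc_tt {n : ℕ} (i j : Fin (n + 1)) (hij : i ≤ j) :
    SimplexCategory.σ i.castSucc ≫ tt j = tt j.succ := by
  apply hom_ext_one
  intro k
  rw [σ_comp_apply, tt_apply, tt_apply, val_predAbove]
  have h : i.val ≤ j.val := hij
  congr 1
  simp only [Fin.val_castSucc, Fin.val_succ]
  split_ifs <;> · apply propext; constructor <;> intro <;> omega

lemma σ_succ_tt {n : ℕ} (i j : Fin (n + 1)) (hij : j ≤ i) :
    SimplexCategory.σ i.succ ≫ tt j = tt j.castSucc := by
  apply hom_ext_one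
  intro k
  rw [σ_comp_apply, tt_apply, tt_apply, val_predAbove]
  have h : j.val ≤ i.val := hij
  congr 1
  simp only [Fin.val_castSucc, Fin.val_succ]
  split_ifs <;> · apply propext; constructor <;> intro <;> omega

variable {E : Type u} [Category.{v} E] {X Y : SimplicialObject E} (f g : X ⟶ Y)

/-- A natural family of maps indexed by the simplices of the interval defines a combinatorial homotopy. -/
def ofFamily (H : ∀ {m : SimplexCategory} (_ : m ⟶ ⦋1⦌), X.obj (op m) ⟶ Y.obj (op m))
    (hH : ∀ {m m' : SimplexCategory} (θ : m' ⟶ m) (t : m ⟶ ⦋1⦌),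
      H t ≫ Y.map θ.op = X.map θ.op ≫ H (θ ≫ t))
    (h0 : ∀ m, H (SimplexCategory.const m ⦋1⦌ 0) = f.app (op m))
    (h1 : ∀ m, H (SimplexCategory.const m ⦋1⦌ 1) = g.app (op m)) :
    SimplicialObject.Homotopy f g where
  h {n} i := X.σ i ≫ H (tt i)
  h_zero_comp_δ_zero n := by
    have e := hH (SimplexCategory.δ (0 : Fin (n + 2))) (tt (0 : Fin (n + 1)))
    rw [δ_zero_tt, h1] at e
    change (X.σ 0 ≫ H (tt 0)) ≫ Y.map (SimplexCategory.δ (0 : Fin (n + 2))).op = _
    rw [Category.assoc, e]
    have e' := X.δ_comp_σ_self (n := n) (i := 0)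
    exact (Category.assoc _ _ _).symm.trans ((congrArg (· ≫ g.app (op ⦋n⦌)) e').trans (Category.id_comp _))
  h_last_comp_δ_last n := by
    have e := hH (SimplexCategory.δ (Fin.last (n + 1))) (tt (Fin.last n))
    rw [δ_last_tt, h0] at e
    change (X.σ (Fin.last n) ≫ H (tt (Fin.last n))) ≫ Y.map (SimplexCategory.δ (Fin.last (n + 1))).op = _
    rw [Category.assoc, e]
    have e' := X.δ_comp_σ_succ (n := n) (i := Fin.last n)
    exact (Category.assoc _ _ _).symm.trans ((congrArg (· ≫ f.app (op ⦋n⦌)) e').trans (Category.id_comp _))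
  h_succ_comp_δ_castSucc_of_lt {n} i j hij := by
    have e := hH (SimplexCategory.δ i.castSucc) (tt j.succ)
    rw [δ_castSucc_tt_succ i j hij] at e
    change (X.σ j.succ ≫ H (tt j.succ)) ≫ Y.map (SimplexCategory.δ i.castSucc).op = _
    rw [Category.assoc, e]
    have e' := X.δ_comp_σ_of_le hij
    exact (Category.assoc _ _ _).symm.trans ((congrArg (· ≫ H (tt j)) e').trans (Category.assoc _ _ _))
  h_succ_comp_δ_castSucc_succ {n} j := by
    have e1 := hH (SimplexCategory.δ j.castSucc.succ) (tt j.succ)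
    have e2 := hH (SimplexCategory.δ j.castSucc.succ) (tt j.castSucc)
    change (X.σ j.succ ≫ H (tt j.succ)) ≫ Y.map (SimplexCategory.δ j.castSucc.succ).op =
      (X.σ j.castSucc ≫ H (tt j.castSucc)) ≫ Y.map (SimplexCategory.δ j.castSucc.succ).op
    rw [Category.assoc, Category.assoc, e1, e2, δ_tt_eq]
    have e1' := X.δ_comp_σ_self (n := n + 1) (i := j.succ)
    have e2' := X.δ_comp_σ_succ (n := n + 1) (i := j.castSucc)
    exact (Category.assoc _ _ _).symm.trans ((congrArg (· ≫ H _) (e1'.trans e2'.symm)).trans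
      (Category.assoc _ _ _))
  h_castSucc_comp_δ_succ_of_lt {n} i j hji := by
    have e := hH (SimplexCategory.δ i.succ) (tt j.castSucc)
    rw [δ_succ_tt_castSucc i j hji] at e
    change (X.σ j.castSucc ≫ H (tt j.castSucc)) ≫ Y.map (SimplexCategory.δ i.succ).op = _
    rw [Category.assoc, e]
    have e' := X.δ_comp_σ_of_gt hji
    exact (Category.assoc _ _ _).symm.trans ((congrArg (· ≫ H (tt j)) e').trans (Category.assoc _ _ _))
  h_comp_σ_castSucc_of_le {n} i j hij := by
    have e := hH (SimplexCategory.σ i.castSucc) (tt j)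
    rw [σ_castSucc_tt i j hij] at e
    change (X.σ j ≫ H (tt j)) ≫ Y.map (SimplexCategory.σ i.castSucc).op = _
    rw [Category.assoc, e]
    have e' := X.σ_comp_σ hij
    exact (Category.assoc _ _ _).symm.trans ((congrArg (· ≫ H (tt j.succ)) e').trans (Category.assoc _ _ _))
  h_comp_σ_succ_of_lt {n} i j hji := by
    have e := hH (SimplexCategory.σ i.succ) (tt j)
    rw [σ_succ_tt i j hji] at e
    change (X.σ j ≫ H (tt j)) ≫ Y.map (SimplexCategory.σ i.succ).op = _
    rw [Category.assoc, e]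
    have e' := X.σ_comp_σ hji
    exact (Category.assoc _ _ _).symm.trans ((congrArg (· ≫ H (tt j.castSucc)) e'.symm).trans
      (Category.assoc _ _ _))

end K311.HtpyFamily
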