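import Groth.Agent.Hyper.K311.CoskPt
import Groth.Agent.Hyper.K311.HtpyFamily

/-!
# `cosk_n` identifies up to homotopy maps which agree in degrees `< n`
-/

set_option autoImplicit false

universe v u

open CategoryTheory CategoryTheory.Limits Opposite Simplicial

namespace K311.CoskHtpy

open CoskPt

variable {E : Type u} [Category.{v} E] (n : ℕ)
    {X X' : SimplicialObject E} (f g : X ⟶ X')
    (hfg : ∀ p : ℕ, p < n → f.app (op (SimplexCategory.mk p)) = g.app (op (SimplexCategory.mk p)))

include hfg in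
lemma comp_eq {k k' : SimplexCategory} (hk : k.len ≤ n) (hk' : k'.len ≤ n) (θ : k' ⟶ k)
    (hθ : ¬ IsIso θ) : X.map θ.op ≫ f.app (op k') = X.map θ.op ≫ g.app (op k') := by
  have h : ∀ m : SimplexCategory, m.len < n → f.app (op m) = g.app (op m) := by
    intro m hm
    obtain ⟨m, rfl⟩ : ∃ k : ℕ, m = ⦋k⦌ := ⟨m.len, (SimplexCategory.mk_len m).symm⟩
    exact hfg m hm
  have key : ∀ (m : SimplexCategory), m.len < n → ∀ (a : k' ⟶ m) (b : m ⟶ k), a ≫ b = θ →
      X.map θ.op ≫ f.app (op k') = X.map θ.op ≫ g.app (op k') := by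
    rintro m hm a b rfl
    rw [op_comp, X.map_comp, Category.assoc, Category.assoc, f.naturality, g.naturality, h m hm]
  by_cases h1 : k'.len < n
  · exact key k' h1 (𝟙 _) θ (Category.id_comp _)
  by_cases h2 : k.len < n
  · exact key k h2 θ (𝟙 _) (Category.comp_id _)
  have e1 : k'.len = n := by omega
  have e2 : k.len = n := by omega
  -- factor through the image
  obtain ⟨k, rfl⟩ : ∃ l : ℕ, k = ⦋l⦌ := ⟨k.len, (SimplexCategory.mk_len k).symm⟩
  obtain ⟨k', rfl⟩ : ∃ l : ℕ, k' = ⦋l⦌ := ⟨k'.len, (SimplexCategory.mk_len k').symm⟩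
  change k' = n at e1
  change k = n at e2
  subst e1
  subst e2
  by_cases hs : Function.Surjective θ.toOrderHom
  · exfalso
    apply hθ
    have : Epi θ := SimplexCategory.epi_iff_surjective.2 hs
    rw [SimplexCategory.eq_id_of_epi θ]
    infer_instance
  · cases k with
    | zero =>
      exfalso
      apply hs
      intro y
      exact ⟨0, Subsingleton.elim (α := Fin 1) _ _⟩
    | succ k =>
      obtain ⟨i, β, rfl⟩ := SimplexCategory.eq_comp_δ_of_not_surjective θ hs
      exact key ⦋k⦌ (Nat.lt_succ_self k) β (SimplexCategory.δ i) rfl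

open scoped Classical in
/-- The map `f` or `g` according to a simplex of the interval. -/
noncomputable def ee {k : SimplexCategory} (s : k ⟶ ⦋1⦌) : X.obj (op k) ⟶ X'.obj (op k) :=
  if s = SimplexCategory.const k ⦋1⦌ 0 then f.app (op k) else g.app (op k)

lemma ee_zero (k : SimplexCategory) : ee f g (SimplexCategory.const k ⦋1⦌ 0) = f.app (op k) :=
  if_pos rfl

lemma ee_one (k : SimplexCategory) : ee f g (SimplexCategory.const k ⦋1⦌ 1) = g.app (op k) := by
  refine if_neg ?_
  intro h
  have h1 := congrArg (fun s => s.toOrderHom 0) h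
  have h2 : (1 : Fin 2) = 0 := h1
  exact absurd h2 (by decide)

lemma ee_or {k : SimplexCategory} (s : k ⟶ ⦋1⦌) : ee f g s = f.app (op k) ∨ ee f g s = g.app (op k) := by
  unfold ee
  split_ifs
  · exact Or.inl rfl
  · exact Or.inr rfl

include hfg in
lemma ee_naturality {k k' : SimplexCategory} (hk : k.len ≤ n) (hk' : k'.len ≤ n) (θ : k' ⟶ k)
    (s : k ⟶ ⦋1⦌) : ee f g s ≫ X'.map θ.op = X.map θ.op ≫ ee f g (θ ≫ s) := by
  by_cases hθ : IsIso θ
  · have hlen : k' = k := by
      refine SimplexCategory.ext (le_antisymm ?_ ?_)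
      · exact SimplexCategory.len_le_of_mono θ
      · exact SimplexCategory.len_le_of_epi θ
    subst hlen
    obtain rfl : θ = 𝟙 _ := SimplexCategory.eq_id_of_epi θ
    simp
  · have h := comp_eq n f g hfg hk hk' θ hθ
    rcases ee_or f g s with h1 | h1 <;> rcases ee_or f g (θ ≫ s) with h2 | h2 <;> rw [h1, h2]
    · rw [f.naturality]
    · rw [← f.naturality, h]
    · rw [← g.naturality, h]
    · rw [g.naturality]

variable
    [∀ (F : (SimplexCategory.Truncated n)ᵒᵖ ⥤ E), (SimplexCategory.Truncated.inclusion n).op.HasRightKanExtension F]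

/-- The counit of the coskeleton adjunction. -/
noncomputable abbrev cu (X : SimplicialObject E) : (SimplexCategory.Truncated.inclusion n).op ⋙
    (SimplicialObject.cosk n).obj X ⟶ (SimplicialObject.truncation n).obj X :=
  (SimplicialObject.coskAdj n).counit.app ((SimplicialObject.truncation n).obj X)

/-- The projections of the coskeleton to its low degree terms. -/
noncomputable def ev (X : SimplicialObject E) (k : SimplexCategory) (hk : k.len ≤ n) :
    ((SimplicialObject.cosk n).obj X).obj (op k) ⟶ X.obj (op k) := (cu n X).app (op ⟨k, hk⟩)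

lemma cosk_map_ev (f : X ⟶ X') (k : SimplexCategory) (hk : k.len ≤ n) :
    ((SimplicialObject.cosk n).map f).app (op k) ≫ ev n X' k hk =
      ev n X k hk ≫ f.app (op k) :=
  congrArg (fun z => z.app (op (⟨k, hk⟩ : SimplexCategory.Truncated n)))
    ((SimplicialObject.coskAdj n).counit.naturality ((SimplicialObject.truncation n).map f))

lemma map_ev (X : SimplicialObject E) (k k' : SimplexCategory) (hk : k.len ≤ n) (hk' : k'.len ≤ n)
    (θ : k' ⟶ k) : ((SimplicialObject.cosk n).obj X).map θ.op ≫ ev n X k' hk' =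
      ev n X k hk ≫ X.map θ.op :=
  (cu n X).naturality (SimplexCategory.Truncated.Hom.tr θ hk' hk).op

variable [HasFiniteLimits E]

lemma hom_ext_ev {T : E} {m : SimplexCategory} {a b : T ⟶ ((SimplicialObject.cosk n).obj X).obj (op m)}
    (h : ∀ (k : SimplexCategory) (hk : k.len ≤ n) (φ : k ⟶ m),
      a ≫ ((SimplicialObject.cosk n).obj X).map φ.op ≫ ev n X k hk =
        b ≫ ((SimplicialObject.cosk n).obj X).map φ.op ≫ ev n X k hk) : a = b :=
  cosk_hom_ext (cu n X) h

lemma exists_lift_ev {T : E} {m : SimplexCategory}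
    (x : ∀ (k : SimplexCategory) (_ : k.len ≤ n) (_ : k ⟶ m), T ⟶ X.obj (op k))
    (hx : ∀ (k k' : SimplexCategory) (hk : k.len ≤ n) (hk' : k'.len ≤ n) (φ : k ⟶ m) (θ : k' ⟶ k),
      x k hk φ ≫ X.map θ.op = x k' hk' (θ ≫ φ)) :
    ∃ a : T ⟶ ((SimplicialObject.cosk n).obj X).obj (op m),
      ∀ (k : SimplexCategory) (hk : k.len ≤ n) (φ : k ⟶ m),
        a ≫ ((SimplicialObject.cosk n).obj X).map φ.op ≫ ev n X k hk = x k hk φ :=
  exists_cosk_lift (cu n X) x hx

include hfg in
lemma exists_H {m : SimplexCategory} (t : m ⟶ ⦋1⦌) :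
    ∃ a : ((SimplicialObject.cosk n).obj X).obj (op m) ⟶ ((SimplicialObject.cosk n).obj X').obj (op m),
      ∀ (k : SimplexCategory) (hk : k.len ≤ n) (φ : k ⟶ m),
        a ≫ ((SimplicialObject.cosk n).obj X').map φ.op ≫ ev n X' k hk =
          ((SimplicialObject.cosk n).obj X).map φ.op ≫ ev n X k hk ≫ ee f g (φ ≫ t) := by
  refine exists_lift_ev n
    (fun k hk φ => ((SimplicialObject.cosk n).obj X).map φ.op ≫ ev n X k hk ≫ ee f g (φ ≫ t)) ?_
  intro k k' hk hk' φ θ
  have h1 := ee_naturality n f g hfg hk hk' θ (φ ≫ t)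
  have h2 := map_ev n X k k' hk hk' θ
  rw [Category.assoc, Category.assoc, h1, op_comp, Functor.map_comp, Category.assoc,
    Category.assoc, ← Category.assoc (ev n X k hk), ← h2, Category.assoc]

include hfg in
theorem nonempty_homotopy :
    Nonempty (SimplicialObject.Homotopy ((SimplicialObject.cosk n).map f) ((SimplicialObject.cosk n).map g)) := by
  choose H hH using fun (m : SimplexCategory) (t : m ⟶ ⦋1⦌) => exists_H n f g hfg t
  refine ⟨HtpyFamily.ofFamily _ _ (fun {m} t => H m t) ?_ ?_ ?_⟩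
  · intro m m' θ t
    refine hom_ext_ev n (fun k hk φ => ?_)
    rw [Category.assoc, Category.assoc, hH, ← Functor.map_comp_assoc, ← op_comp, hH, op_comp,
      Functor.map_comp_assoc, Category.assoc]
  · intro m
    refine hom_ext_ev n (fun k hk φ => ?_)
    rw [hH]
    have h1 : φ ≫ SimplexCategory.const m ⦋1⦌ 0 = SimplexCategory.const k ⦋1⦌ 0 := by
      ext; rfl
    rw [h1, ee_zero, ← cosk_map_ev, ← NatTrans.naturality_assoc]
  · intro m
    refine hom_ext_ev n (fun k hk φ => ?_)
    rw [hH]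
    have h1 : φ ≫ SimplexCategory.const m ⦋1⦌ 1 = SimplexCategory.const k ⦋1⦌ 1 := by
      ext; rfl
    rw [h1, ee_one, ← cosk_map_ev, ← NatTrans.naturality_assoc]

end K311.CoskHtpy
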