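import Mathlib.AlgebraicTopology.SimplicialObject.Basic
import Mathlib.CategoryTheory.Functor.KanExtension.Pointwise
import Mathlib.CategoryTheory.FinCategory.Basic
import Mathlib.CategoryTheory.Limits.Shapes.FiniteLimits
import Mathlib.Data.Finite.Sigma

/-!
# Coskeleta in categories with finite limits are pointwise

* `hasPointwise`: with finite limits the right Kan extensions defining `cosk_n` are pointwise;
* `cosk_hom_ext`, `exists_cosk_lift`: maps into `(cosk_n F)_m` for any choice of right Kan extension.
-/

set_option autoImplicit false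

universe v u

open CategoryTheory CategoryTheory.Limits Opposite Simplicial

namespace K311.CoskPt

lemma finite_obj (n : ℕ) : Finite (SimplexCategory.Truncated n) :=
  Finite.of_injective (fun a : SimplexCategory.Truncated n => (⟨a.obj.len, Nat.lt_succ_of_le a.2⟩ : Fin (n + 1)))
    (fun a b h => by
      have h' : a.obj.len = b.obj.len := congrArg Fin.val h
      obtain ⟨a, ha⟩ := a
      obtain ⟨b, hb⟩ := b
      obtain rfl : a = b := SimplexCategory.ext h'
      rfl)

attribute [local instance] finite_obj

lemma finite_hom (m m' : SimplexCategory) : Finite (m ⟶ m') := by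
  refine Finite.of_injective (fun f => (f.toOrderHom : Fin (m.len + 1) → Fin (m'.len + 1))) ?_
  intro f g h
  ext j : 3
  exact congrFun h j

attribute [local instance] finite_hom

lemma finite_hom_op (m m' : SimplexCategoryᵒᵖ) : Finite (m ⟶ m') :=
  Finite.of_injective Quiver.Hom.unop Quiver.Hom.unop_inj

attribute [local instance] finite_hom_op

lemma finite_sa (n : ℕ) (Y : SimplexCategoryᵒᵖ) :
    Finite (StructuredArrow Y (SimplexCategory.Truncated.inclusion n).op) := by
  have : Finite ((SimplexCategory.Truncated n)ᵒᵖ) := Finite.of_injective unop unop_injective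
  have : ∀ r : (SimplexCategory.Truncated n)ᵒᵖ,
      Finite (Y ⟶ (SimplexCategory.Truncated.inclusion n).op.obj r) := fun r => finite_hom_op _ _
  refine Finite.of_injective (fun a : StructuredArrow Y (SimplexCategory.Truncated.inclusion n).op =>
    (⟨a.right, a.hom⟩ : Σ r : (SimplexCategory.Truncated n)ᵒᵖ,
      (Y ⟶ (SimplexCategory.Truncated.inclusion n).op.obj r))) ?_
  intro a b h
  obtain ⟨⟨⟨⟩⟩, r, f⟩ := a
  obtain ⟨⟨⟨⟩⟩, r', f'⟩ := b
  obtain ⟨h1, h2⟩ := Sigma.mk.inj h
  cases h1
  cases h2
  rfl

attribute [local instance] finite_sa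

lemma finite_sa_hom (n : ℕ) (Y : SimplexCategoryᵒᵖ)
    (a b : StructuredArrow Y (SimplexCategory.Truncated.inclusion n).op) : Finite (a ⟶ b) := by
  refine Finite.of_injective (fun f : a ⟶ b => (SimplexCategory.Truncated.inclusion n).op.map f.right) ?_
  intro f g h
  apply StructuredArrow.hom_ext
  exact (SimplexCategory.Truncated.inclusion n).op.map_injective h

attribute [local instance] finite_sa_hom

/-- The structured arrow categories are finite. -/
@[instance_reducible]
noncomputable def finCategory_sa (n : ℕ) (Y : SimplexCategoryᵒᵖ) :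
    FinCategory (StructuredArrow Y (SimplexCategory.Truncated.inclusion n).op) where
  fintypeObj := Fintype.ofFinite _
  fintypeHom _ _ := Fintype.ofFinite _

variable {E : Type u} [Category.{v} E] [HasFiniteLimits E]

attribute [local instance] finCategory_sa

theorem hasPointwise (n : ℕ) (F : (SimplexCategory.Truncated n)ᵒᵖ ⥤ E) :
    (SimplexCategory.Truncated.inclusion n).op.HasPointwiseRightKanExtension F := by
  intro Y
  infer_instance

variable {n : ℕ} {F : (SimplexCategory.Truncated n)ᵒᵖ ⥤ E} {G : SimplicialObject E}
  (α : (SimplexCategory.Truncated.inclusion n).op ⋙ G ⟶ F) [G.IsRightKanExtension α]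

/-- The pointwise universal property. -/
noncomputable def isPointwise : (Functor.RightExtension.mk G α).IsPointwiseRightKanExtension := by
  have := hasPointwise n F
  exact Functor.isPointwiseRightKanExtensionOfIsRightKanExtension G α

include α in
/-- Maps to the terms of a coskeleton are determined by their components. -/
theorem cosk_hom_ext {T : E} {m : SimplexCategory} {a b : T ⟶ G.obj (op m)}
    (h : ∀ (k : SimplexCategory) (hk : k.len ≤ n) (φ : k ⟶ m),
      a ≫ G.map φ.op ≫ α.app (op ⟨k, hk⟩) = b ≫ G.map φ.op ≫ α.app (op ⟨k, hk⟩)) : a = b := by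
  refine (isPointwise α (op m)).hom_ext (fun j => ?_)
  exact h j.right.unop.obj j.right.unop.2 j.hom.unop

/-- Construction of maps to the terms of a coskeleton. -/
theorem exists_cosk_lift {T : E} {m : SimplexCategory}
    (x : ∀ (k : SimplexCategory) (hk : k.len ≤ n) (_ : k ⟶ m), T ⟶ F.obj (op ⟨k, hk⟩))
    (hx : ∀ (k k' : SimplexCategory) (hk : k.len ≤ n) (hk' : k'.len ≤ n) (φ : k ⟶ m) (θ : k' ⟶ k),
      x k hk φ ≫ F.map (SimplexCategory.Truncated.Hom.tr θ hk' hk).op = x k' hk' (θ ≫ φ)) :
    ∃ a : T ⟶ G.obj (op m), ∀ (k : SimplexCategory) (hk : k.len ≤ n) (φ : k ⟶ m),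
      a ≫ G.map φ.op ≫ α.app (op ⟨k, hk⟩) = x k hk φ := by
  let c : Cone (StructuredArrow.proj (op m) (SimplexCategory.Truncated.inclusion n).op ⋙ F) :=
    { pt := T
      π :=
        { app := fun j => x j.right.unop.obj j.right.unop.2 j.hom.unop
          naturality := fun i j f => by
            have h := hx i.right.unop.obj j.right.unop.obj i.right.unop.2 j.right.unop.2 i.hom.unop
              f.right.unop.hom
            have hw : f.right.unop.hom ≫ i.hom.unop = j.hom.unop :=
              congrArg Quiver.Hom.unop (StructuredArrow.w f)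
            rw [hw] at h
            exact (Category.id_comp _).trans h.symm } }
  refine ⟨(isPointwise α (op m)).lift c, fun k hk φ => ?_⟩
  exact (isPointwise α (op m)).fac c (StructuredArrow.mk (S := op m) (Y := op (⟨k, hk⟩ : SimplexCategory.Truncated n))
    (T := (SimplexCategory.Truncated.inclusion n).op) φ.op)

end K311.CoskPt
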