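import Groth.Agent.Hyper.K311.HomCech
import Groth.Agent.CohtopB.HypRes

/-!
# The Cech complex of a simplicial formal coproduct as `Hom(Z[K_•], M)`
-/

set_option autoImplicit false

universe u

open CategoryTheory Limits Opposite Simplicial
open Groth.Agent.CohtopB.HypInj Groth.Agent.CohtopB.HypRes Groth.Agent.CohtopB.LocTriv

noncomputable section

namespace K311.HomCechK

variable {C : Type u} [SmallCategory C] (K : SimplicialObject (FormalCoproduct.{u} C))
  (P : Cᵒᵖ ⥤ AddCommGrpCat.{u})

/-- The complex of free abelian presheaves. -/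
abbrev PC : ChainComplex (Cᵒᵖ ⥤ AddCommGrpCat.{u}) ℕ :=
  (AlgebraicTopology.alternatingFaceMapComplex _).obj (PS K)

/-- A cochain as a morphism of presheaves. -/
def L (n : ℕ) : (cx K P).X n →+ ((PC K).X n ⟶ P) where
  toFun s := 
    { app := fun V => AddCommGrpCat.ofHom (lin K P (n := n) s V.unop)
      naturality := fun V W g => (linHom K P (n := n) s).naturality g }
  map_zero' := by
    ext V z
    change lin K P (n := n) 0 V.unop z = 0
    have : lin K P (n := n) 0 V.unop = 0 := by
      refine FreeAbelianGroup.lift_ext _ _ fun x => ?_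
      simp only [lin, FreeAbelianGroup.lift_apply_of]
      rw [map_zero]
      rfl
    rw [this]
    rfl
  map_add' s t := by
    ext V z
    change lin K P (n := n) (s + t) V.unop z = lin K P (n := n) s V.unop z + lin K P (n := n) t V.unop z
    have : lin K P (n := n) (s + t) V.unop = lin K P (n := n) s V.unop + lin K P (n := n) t V.unop := by
      refine FreeAbelianGroup.lift_ext _ _ fun x => ?_
      rw [AddMonoidHom.add_apply]
      simp only [lin, FreeAbelianGroup.lift_apply_of]
      exact (evh P x).hom.map_add _ _
    rw [this]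
    rfl

lemma L_app (n : ℕ) (s : (cx K P).X n) (V : C) (z : FreeAbelianGroup (Sec K n V)) :
    (L K P n s).app (op V) z = lin K P (n := n) s V z := rfl

lemma L_bijective (n : ℕ) : Function.Bijective (L K P n) := by
  refine ⟨fun s t h => ?_, fun f => ?_⟩
  · refine val_ext P (L := K _⦋n⦌) fun i => ?_
    have := congrArg (fun f => f.app (op ((K _⦋n⦌).obj i))
      (FreeAbelianGroup.of (FormalCoproduct.Hom.fromIncl i (𝟙 _)))) h
    simp only [L_app, lin, FreeAbelianGroup.lift_apply_of] at this
    exact this
  · obtain ⟨t, ht⟩ := exists_val P (L := K _⦋n⦌)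
      (fun V x => f.app (op V) (FreeAbelianGroup.of x)) (fun _ W g x => by
        have := congrArg (fun f => f (FreeAbelianGroup.of x)) (f.naturality g.op)
        refine Eq.trans ?_ this
        change _ = f.app (op W) (FreeAbelianGroup.map (rs g) (FreeAbelianGroup.of x))
        rw [FreeAbelianGroup.map_of_apply])
    refine ⟨t, ?_⟩
    ext V z
    have : lin K P (n := n) t V.unop = (f.app V).hom := by
      refine FreeAbelianGroup.lift_ext _ _ fun x => ?_
      simp only [lin, FreeAbelianGroup.lift_apply_of]
      exact ht x
    exact DFunLike.congr_fun this z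

lemma L_d (n : ℕ) (s : (cx K P).X n) :
    L K P (n + 1) ((cx K P).d n (n + 1) s) = (PC K).d (n + 1) n ≫ L K P n s := by
  ext V z
  change lin K P (n := n + 1) ((cx K P).d n (n + 1) s) V.unop z =
    lin K P (n := n) s V.unop ((((PC K).d (n + 1) n)).app (op V.unop) z)
  rw [d_app, cx_d, lin_bd]
  rfl

/-- The Cech cohomology as cohomology classes. -/
theorem nonempty_iso (p : ℕ) :
    Nonempty ((cx K P).homology p ≅ AddCommGrpCat.of
      (CochainComplex.HomComplex.CohomologyClass (HomCech.ext (PC K))
        ((CochainComplex.singleFunctor _ 0).obj P) p)) :=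
  HomCech.nonempty_iso (PC K) P (cx K P) (L K P) (L_bijective K P) (L_d K P) p

end K311.HomCechK
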