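import Groth.Agent.CohDer.K49.GrothSO
import Groth.Agent.Dcoh.DerAdj
import Mathlib.CategoryTheory.Triangulated.Yoneda
import Mathlib.Algebra.Homology.DerivedCategory.KProjective
import Mathlib.Algebra.Homology.DerivedCategory.KInjective
import Mathlib.Algebra.Homology.HomotopyCategory.HomComplexSingle
import Mathlib.CategoryTheory.Adjunction.Additive
import Mathlib.Algebra.Category.Grp.Zero

/-!
# Hom out of a complex as a homological functor on `D^+`

`Φ X : D^+(A) ⥤ Ab`, `Y ↦ Hom_{K(A)}(X, I_Y)` where `I_Y` is a bounded below complex of injectives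
representing `Y`.
-/

set_option autoImplicit false

universe w v u v' u'

open CategoryTheory Limits Pretriangulated Triangulated Opposite
open Groth.Agent.Etrest.RDer1

noncomputable section

namespace K311.HomHyper

section hom

variable {A : Type u} [Category.{v} A] [Abelian A]

/-- Postcomposition with a quasi-isomorphism out of a K-projective complex. -/
lemma bijective_comp_of_isKProjective {X L L' : CochainComplex A ℤ} [X.IsKProjective]
    (s : L ⟶ L') [QuasiIso s] :
    Function.Bijective (fun f : (HomotopyCategory.quotient A (.up ℤ)).obj X ⟶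
      (HomotopyCategory.quotient A (.up ℤ)).obj L =>
        f ≫ (HomotopyCategory.quotient A (.up ℤ)).map s) := by
  let _ := HasDerivedCategory.standard A
  have h1 := CochainComplex.IsKProjective.Qh_map_bijective X
    ((HomotopyCategory.quotient A (.up ℤ)).obj L)
  have h2 := CochainComplex.IsKProjective.Qh_map_bijective X
    ((HomotopyCategory.quotient A (.up ℤ)).obj L')
  rw [← Function.Bijective.of_comp_iff' h2]
  let e : DerivedCategory.Qh.obj ((HomotopyCategory.quotient A (.up ℤ)).obj L) ≅
      DerivedCategory.Qh.obj ((HomotopyCategory.quotient A (.up ℤ)).obj L') :=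
    asIso (DerivedCategory.Qh.map ((HomotopyCategory.quotient A (.up ℤ)).map s))
  have h3 := ((Iso.homCongr (Iso.refl _) e).bijective).comp h1
  convert h3 using 1
  ext f
  simp [e, Iso.homCongr]

/-- Precomposition with a quasi-isomorphism into a K-injective complex. -/
lemma bijective_comp_of_isKInjective {X X' L : CochainComplex A ℤ} [L.IsKInjective]
    (s : X ⟶ X') [QuasiIso s] :
    Function.Bijective (fun f : (HomotopyCategory.quotient A (.up ℤ)).obj X' ⟶
      (HomotopyCategory.quotient A (.up ℤ)).obj L =>
        (HomotopyCategory.quotient A (.up ℤ)).map s ≫ f) := by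
  let _ := HasDerivedCategory.standard A
  have h1 := CochainComplex.IsKInjective.Qh_map_bijective
    ((HomotopyCategory.quotient A (.up ℤ)).obj X') L
  have h2 := CochainComplex.IsKInjective.Qh_map_bijective
    ((HomotopyCategory.quotient A (.up ℤ)).obj X) L
  rw [← Function.Bijective.of_comp_iff' h2]
  let e : DerivedCategory.Qh.obj ((HomotopyCategory.quotient A (.up ℤ)).obj X) ≅
      DerivedCategory.Qh.obj ((HomotopyCategory.quotient A (.up ℤ)).obj X') :=
    asIso (DerivedCategory.Qh.map ((HomotopyCategory.quotient A (.up ℤ)).map s))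
  have h3 := ((Iso.homCongr e.symm (Iso.refl _)).bijective).comp h1
  convert h3 using 1
  ext f
  simp [e, Iso.homCongr]

/-- The postcomposition isomorphism. -/
def postIso {X L L' : CochainComplex A ℤ} [X.IsKProjective] (s : L ⟶ L') [QuasiIso s] :
    ((HomotopyCategory.quotient A (.up ℤ)).obj X ⟶ (HomotopyCategory.quotient A (.up ℤ)).obj L) ≃+
      ((HomotopyCategory.quotient A (.up ℤ)).obj X ⟶ (HomotopyCategory.quotient A (.up ℤ)).obj L') :=
  AddEquiv.ofBijective (Preadditive.rightComp _ ((HomotopyCategory.quotient A (.up ℤ)).map s))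
    (bijective_comp_of_isKProjective s)

/-- The precomposition isomorphism. -/
def preIso {X X' L : CochainComplex A ℤ} [L.IsKInjective] (s : X ⟶ X') [QuasiIso s] :
    ((HomotopyCategory.quotient A (.up ℤ)).obj X' ⟶ (HomotopyCategory.quotient A (.up ℤ)).obj L) ≃+
      ((HomotopyCategory.quotient A (.up ℤ)).obj X ⟶ (HomotopyCategory.quotient A (.up ℤ)).obj L) :=
  AddEquiv.ofBijective (Preadditive.leftComp _ ((HomotopyCategory.quotient A (.up ℤ)).map s))
    (bijective_comp_of_isKInjective s)

/-- Postcomposition with an isomorphism. -/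
def congrIso {T : Type*} [Category* T] [Preadditive T] (X : T) {L L' : T} (e : L ≅ L') :
    (X ⟶ L) ≃+ (X ⟶ L') where
  toFun f := f ≫ e.hom
  invFun f := f ≫ e.inv
  left_inv f := by simp
  right_inv f := by simp
  map_add' f g := by simp

/-- Morphisms from a complex concentrated in degrees `≤ 0` to the shift of a complex in large degrees vanish. -/
lemma subsingleton_hom (X L : CochainComplex A ℤ) [X.IsStrictlyLE 0] (m : ℤ) [L.IsStrictlyGE m]
    (n : ℤ) (hn : n < m) :
    Subsingleton ((HomotopyCategory.quotient A (.up ℤ)).obj X ⟶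
      ((HomotopyCategory.quotient A (.up ℤ)).obj L)⟦n⟧) := by
  have h1 : Subsingleton (CochainComplex.HomComplex.Cochain X L n) := ⟨fun a b => by
    ext p q hpq
    by_cases hp : 0 < p
    · exact (X.isZero_of_isStrictlyLE 0 p hp).eq_of_src _ _
    · exact (L.isZero_of_isStrictlyGE m q (by lia)).eq_of_tgt _ _⟩
  have h2 : Subsingleton (CochainComplex.HomComplex.CohomologyClass X L n) := ⟨fun a b => by
    obtain ⟨a, rfl⟩ := a.mk_surjective
    obtain ⟨b, rfl⟩ := b.mk_surjective
    congr 1
    ext : 1
    exact Subsingleton.elim _ _⟩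
  exact ((CochainComplex.HomComplex.CohomologyClass.homAddEquiv.toEquiv.trans
    (congrIso _ (((HomotopyCategory.quotient A (.up ℤ)).commShiftIso n).app L)).toEquiv)).symm.subsingleton

end hom

section functor

variable {A : Type u} [Category.{v} A] [Abelian A] [HasDerivedCategory.{w} A] [EnoughInjectives A]

/-- The injective model functor. -/
def toK (A : Type u) [Category.{v} A] [Abelian A] [HasDerivedCategory.{w} A] [EnoughInjectives A] :
    DerivedCategory.Plus A ⥤ HomotopyCategory A (.up ℤ) :=
  (injDEquiv A).inverse ⋙ (InjectiveObject.ι A).mapHomotopyCategoryPlus ⋙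
    HomotopyCategory.Plus.ι A

instance : (toK A).CommShift ℤ := by unfold toK; infer_instance
instance : (toK A).IsTriangulated := by unfold toK; infer_instance

/-- The injective model of a complex of injectives. -/
def toKInj (L : HomotopyCategory.Plus (InjectiveObject A)) :
    (toK A).obj ((injD A).obj L) ≅
      (HomotopyCategory.Plus.ι A).obj ((InjectiveObject.ι A).mapHomotopyCategoryPlus.obj L) :=
  ((InjectiveObject.ι A).mapHomotopyCategoryPlus ⋙ HomotopyCategory.Plus.ι A).mapIso
    ((injDEquiv A).unitIso.symm.app L)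

/-- `Y ↦ Hom_{K(A)}(X, I_Y)`. -/
def Φ (X : HomotopyCategory A (.up ℤ)) : DerivedCategory.Plus A ⥤ AddCommGrpCat.{v} :=
  toK A ⋙ preadditiveCoyoneda.obj (op X)

instance (X : HomotopyCategory A (.up ℤ)) : (Φ X).IsHomological := by unfold Φ; infer_instance
instance (X : HomotopyCategory A (.up ℤ)) : (Φ X).ShiftSequence ℤ := by unfold Φ; infer_instance

/-- The value of the shifts of `Φ`. -/
def shiftIso (X : HomotopyCategory A (.up ℤ)) (n : ℤ) (Y : DerivedCategory.Plus A) :
    ((Φ X).shift n).obj Y ≅ AddCommGrpCat.of (X ⟶ ((toK A).obj Y)⟦n⟧) := Iso.refl _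

/-- The value of the shifts of `Φ` through an injective model. -/
def shiftIsoInj (X : HomotopyCategory A (.up ℤ)) (n : ℤ) {Y : DerivedCategory.Plus A}
    {L : CochainComplex A ℤ}
    (e : (toK A).obj Y ≅ (HomotopyCategory.quotient A (.up ℤ)).obj L) :
    ((Φ X).shift n).obj Y ≅ AddCommGrpCat.of (X ⟶ (HomotopyCategory.quotient A (.up ℤ)).obj (L⟦n⟧)) :=
  AddEquiv.toAddCommGrpIso (congrIso X ((shiftFunctor _ n).mapIso e ≪≫
    (((HomotopyCategory.quotient A (.up ℤ)).commShiftIso n).app L).symm))

/-- Vanishing. -/
lemma isZero_shift (X : CochainComplex A ℤ) [X.IsStrictlyLE 0] (Y : DerivedCategory.Plus A) (m : ℤ)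
    [Y.IsGE m] (n : ℤ) (hn : n < m) :
    IsZero (((Φ ((HomotopyCategory.quotient A (.up ℤ)).obj X)).shift n).obj Y) := by
  obtain ⟨L, hL, ⟨e⟩⟩ := DerivedCategory.Plus.exists_injective_nonempty_iso Y m
  let e' : (toK A).obj Y ≅ (HomotopyCategory.quotient A (.up ℤ)).obj
      (((InjectiveObject.ι A).mapHomologicalComplex _).obj L.obj) :=
    (toK A).mapIso e.symm ≪≫ toKInj ((HomotopyCategory.Plus.quotient _).obj L)
  have : CochainComplex.IsStrictlyGE
      (((InjectiveObject.ι A).mapHomologicalComplex (.up ℤ)).obj L.obj) m := by infer_instance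
  have h := subsingleton_hom X (((InjectiveObject.ι A).mapHomologicalComplex (.up ℤ)).obj L.obj) m n hn
  have h' : Subsingleton ((HomotopyCategory.quotient A (.up ℤ)).obj X ⟶ ((toK A).obj Y)⟦n⟧) :=
    (congrIso _ ((shiftFunctor _ n).mapIso e')).toEquiv.subsingleton
  exact (AddCommGrpCat.isZero_of_subsingleton (AddCommGrpCat.of _)).of_iso (shiftIso _ n Y)

end functor

end K311.HomHyper
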