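import Groth.Agent.Hyper.K311.HomCechK
import Groth.Agent.Etrest.RDer1
import Groth.Agent.CohtopB.HypSiteGlue
import Groth.Agent.S3091
import Mathlib.CategoryTheory.Abelian.Projective.Extend
import Mathlib.CategoryTheory.Abelian.Projective.Resolution

/-!
# The free abelian (pre)sheaf complex on a hypercovering

* `PC K` is a complex of projective presheaves;
* its sheafification is quasi-isomorphic to the constant sheaf `ℤ` in degree `0`.
-/

set_option autoImplicit false

universe v u

open CategoryTheory Limits Opposite Simplicial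
open Groth.Agent.CohtopB.HypInj Groth.Agent.CohtopB.HypRes Groth.Agent.CohtopB.LocTriv

noncomputable section

namespace K311.HomRes

section generic

variable {A : Type u} [Category.{v} A] [Abelian A] (P : ChainComplex A ℕ) {Z : A}
  (φ : P.X 0 ⟶ Z) (w : P.d 1 0 ≫ φ = 0)

/-- The augmentation as a morphism of chain complexes. -/
def aug : P ⟶ (ChainComplex.single₀ A).obj Z :=
  (ChainComplex.toSingle₀Equiv _ _).symm ⟨φ, w⟩

lemma quasiIso_aug [Epi φ] (h0 : (ShortComplex.mk _ _ w).Exact) (h : ∀ n, P.ExactAt (n + 1)) :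
    QuasiIso (aug P φ w) := ⟨fun n => by
  cases n
  · rw [ChainComplex.quasiIsoAt₀_iff, ShortComplex.quasiIso_iff_of_zeros']
    · refine (ShortComplex.exact_and_epi_g_iff_of_iso ?_).2
        ⟨h0, by dsimp; infer_instance⟩
      exact ShortComplex.isoMk (Iso.refl _) (Iso.refl _) (Iso.refl _)
        ((Category.id_comp _).trans (Category.comp_id _).symm)
        ((Category.id_comp _).trans ((Category.comp_id _).trans (by simp [aug])).symm)
    · exact P.shape 0 0 (by simp)
    all_goals rfl
  · rw [quasiIsoAt_iff_exactAt']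
    · apply h
    · apply ChainComplex.exactAt_succ_single_obj⟩

/-- The augmentation as a morphism of cochain complexes. -/
def aug' : HomCech.ext P ⟶ (CochainComplex.singleFunctor A 0).obj Z :=
  HomologicalComplex.extendMap (aug P φ w) ComplexShape.embeddingDownNat ≫
      (HomologicalComplex.extendSingleIso _ _ _ _ (by simp)).hom

lemma quasiIso_aug' [Epi φ] (h0 : (ShortComplex.mk _ _ w).Exact) (h : ∀ n, P.ExactAt (n + 1)) :
    QuasiIso (aug' P φ w) := by
  have h1 := quasiIso_aug P φ w h0 h
  have h2 : QuasiIso (HomologicalComplex.extendMap (aug P φ w) ComplexShape.embeddingDownNat) :=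
    inferInstance
  have h3 : QuasiIso (HomologicalComplex.extendSingleIso ComplexShape.embeddingDownNat Z 0 0
      (by simp)).hom := inferInstance
  exact quasiIso_comp _ _

end generic

section cech

variable {C : Type u} [SmallCategory C] (K : SimplicialObject (FormalCoproduct.{u} C))

open HomCechK

instance projective_X (n : ℕ) : Projective ((PC K).X n) where
  factors {E X} f e he := by
    have hepi : ∀ V : C, Function.Surjective (e.app (op V)) := fun V => by
      have : Epi (e.app (op V)) := inferInstance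
      exact (AddCommGrpCat.epi_iff_surjective _).1 this
    obtain ⟨t, ht⟩ : ∃ t : (cx K E).X n, ∀ i, e.app _ (proj (L := K _⦋n⦌) E i t) =
        f.app (op ((K _⦋n⦌).obj i)) (FreeAbelianGroup.of (FormalCoproduct.Hom.fromIncl i (𝟙 _))) := by
      choose y hy using fun i => hepi ((K _⦋n⦌).obj i)
        (f.app (op ((K _⦋n⦌).obj i)) (FreeAbelianGroup.of (FormalCoproduct.Hom.fromIncl i (𝟙 _))))
      refine ⟨(Concrete.productEquiv (fun i : (K _⦋n⦌).I => E.obj (op ((K _⦋n⦌).obj i)))).symm y,
        fun i => ?_⟩
      refine Eq.trans ?_ (hy i)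
      exact congrArg _ (Concrete.productEquiv_symm_apply_π
        (fun i : (K _⦋n⦌).I => E.obj (op ((K _⦋n⦌).obj i))) _ _)
    refine ⟨L K E n t, ?_⟩
    obtain ⟨s, hs⟩ := (L_bijective K X n).2 f
    obtain ⟨s', hs'⟩ := (L_bijective K X n).2 (L K E n t ≫ e)
    rw [← hs, ← hs']
    congr 1
    refine val_ext X (L := K _⦋n⦌) fun i => ?_
    have h1 : evh X (FormalCoproduct.Hom.fromIncl i (𝟙 _)) s =
        f.app (op ((K _⦋n⦌).obj i)) (FreeAbelianGroup.of (FormalCoproduct.Hom.fromIncl i (𝟙 _))) := by
      rw [← hs]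
      exact (FreeAbelianGroup.lift_apply_of _ _).symm
    have h2 : evh X (FormalCoproduct.Hom.fromIncl i (𝟙 _)) s' =
        (L K E n t ≫ e).app (op ((K _⦋n⦌).obj i))
          (FreeAbelianGroup.of (FormalCoproduct.Hom.fromIncl i (𝟙 _))) := by
      rw [← hs']
      exact (FreeAbelianGroup.lift_apply_of _ _).symm
    rw [h1, h2, ← ht, ← evh_fromIncl]
    refine congrArg (e.app (op ((K _⦋n⦌).obj i))) ?_
    exact FreeAbelianGroup.lift_apply_of _ _

end cech

end K311.HomRes
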