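import Groth.Agent.Hyper.K311.HomSheaf
import Groth.Agent.EtDesc.K224.SpAbut
import Mathlib.CategoryTheory.Preadditive.Projective.Resolution

/-!
# The spectral sequence of a complex of projectives resolving `Z` after applying a left adjoint
-/

set_option autoImplicit false

universe v u u'

open CategoryTheory Limits Opposite Simplicial Pretriangulated Triangulated ComposableArrows
open Groth.Agent.Etrest.RDer1

noncomputable section

namespace K311.HomSS

open HomHyper HomSheaf HomRes K49 K49.GrothSO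

variable {A : Type u} [Category.{v} A] [Abelian A] [EnoughInjectives A]
  {B : Type u'} [Category.{v} B] [Abelian B] [EnoughInjectives B] [HasExt.{v} B]
  (G : B ⥤ A) [G.Additive] (hG : ∀ I : B, Injective I → Injective (G.obj I)) (F : B)
  {F' : A ⥤ B} [F'.Additive] (adj : F' ⊣ G) (P : ChainComplex A ℕ) [∀ n, Projective (P.X n)] {Z : B}
  (φ : F'.obj (P.X 0) ⟶ Z) (w : F'.map (P.d 1 0) ≫ φ = 0)

include hG adj in
/-- The spectral sequence `H^p(Hom(P_•, R^q G F)) ⇒ Ext^{p+q}(Z, F)`. -/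
theorem exists_spectralSequence (hφ : Epi φ) (h0 : (ShortComplex.mk _ _ w).Exact)
    (h : ∀ n : ℕ, ((F'.mapHomologicalComplex (.down ℕ)).obj P).ExactAt (n + 1))
    (HF : ℕ → A) (eHF : ∀ q, Nonempty ((G.rightDerived q).obj F ≅ HF q))
    (D : A → CochainComplex AddCommGrpCat.{v} ℕ)
    (eD : ∀ (M : A) (p : ℕ), Nonempty ((D M).homology p ≅ AddCommGrpCat.of
      (CochainComplex.HomComplex.CohomologyClass (HomCech.ext P)
        ((CochainComplex.singleFunctor A 0).obj M) p))) :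
    ∃ (E : E₂CohomologicalSpectralSequence AddCommGrpCat.{v})
      (a : SpSeq.Abutment E (fun n : ℤ => if 0 ≤ n then AddCommGrpCat.of (Abelian.Ext.{v} Z F n.toNat)
        else AddCommGrpCat.of PUnit.{v + 1})),
      (∀ n, a.IsFinite n) ∧ SpSeq.IsBounded E ∧
      ∀ p q : ℤ, Nonempty ((E.page 2 le_rfl).X (p, q) ≅
        (if 0 ≤ p ∧ 0 ≤ q then (D (HF q.toNat)).homology p.toNat
         else AddCommGrpCat.of PUnit.{v + 1})) := by
  let _ := HasDerivedCategory.standard A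
  let R := injectiveResolution F
  let X := HomCech.ext P
  let Xq := (HomotopyCategory.quotient A (.up ℤ)).obj X
  let K := Y G hG R
  let So := TSpec.so (tP A) (Φ Xq) K
  let s : (F'.mapHomologicalComplex (.up ℤ)).obj X ⟶ (CochainComplex.singleFunctor B 0).obj Z :=
    (mapExtendIso ComplexShape.embeddingDownNat F' P).hom ≫
      aug' ((F'.mapHomologicalComplex (.down ℕ)).obj P) φ w
  have hs : QuasiIso s := by
    have := @quasiIso_aug' _ _ _ ((F'.mapHomologicalComplex (.down ℕ)).obj P) Z φ w hφ h0 h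
    exact quasiIso_comp _ _
  have hlow : ∀ (n : ℤ) (i j : EInt) (hij : i ≤ j), j ≤ ((0 : ℤ) : EInt) →
      IsZero ((So.H n).obj (mk₁ (homOfLE hij))) := fun n i j hij hj =>
    TSpec.isZero_H_of_le (tP A) (Φ Xq) K 0 n i j hij hj
  have hhigh : ∀ (n : ℤ) (i j : EInt) (hij : i ≤ j) (m : ℤ), n < m → (m : EInt) ≤ i →
      IsZero ((So.H n).obj (mk₁ (homOfLE hij))) := fun n i j hij m hm hi =>
    TSpec.isZero_H_of_lt (tP A) (Φ Xq) K m n (fun Y _ => isZero_shift X Y m n hm) i j hij hi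
  obtain ⟨E, a, ha, hb, he⟩ := K224.SpAbut.exists_spectralSequence_E₂ So
    ⟨fun n => ⟨0, fun i j hij hj => hlow n i j hij hj⟩,
      fun n => ⟨n + 1, fun i j hij hi => hhigh n i j hij (n + 1) (by lia) hi⟩⟩
    (fun n : ℤ => if 0 ≤ n then AddCommGrpCat.of (Abelian.Ext.{v} Z F n.toNat)
        else AddCommGrpCat.of PUnit.{v + 1})
    (fun n => by
      by_cases hn : 0 ≤ n
      · obtain ⟨k, rfl⟩ := Int.eq_ofNat_of_zero_le hn
        exact ⟨TSpec.HBotTop _ _ _ _ ≪≫ abutIso G hG R adj X s k ≪≫ eqToIso (by simp)⟩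
      · have h1 : IsZero ((So.H n).obj (mk₁ (homOfLE (bot_le : (⊥ : EInt) ≤ ⊤)))) :=
          (isZero_shift X K 0 n (by lia)).of_iso (TSpec.HBotTop _ _ _ _)
        have h2 : IsZero (AddCommGrpCat.of PUnit.{v + 1}) := AddCommGrpCat.isZero_of_subsingleton _
        exact ⟨h1.iso h2 ≪≫ eqToIso (by rw [if_neg hn])⟩)
  refine ⟨E, a, ha, hb, fun p q => ?_⟩
  obtain ⟨e1⟩ := he p q
  have h2 : IsZero (AddCommGrpCat.of PUnit.{v + 1}) := AddCommGrpCat.isZero_of_subsingleton _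
  by_cases hpq : 0 ≤ p ∧ 0 ≤ q
  · obtain ⟨hp, hq⟩ := hpq
    obtain ⟨k, rfl⟩ := Int.eq_ofNat_of_zero_le hp
    obtain ⟨l, rfl⟩ := Int.eq_ofNat_of_zero_le hq
    obtain ⟨e2⟩ := nonempty_E₂ X K ((k : ℤ) + l) l (l + 1) rfl k rfl
    obtain ⟨e3⟩ := eHF l
    obtain ⟨e4⟩ := eD (HF l) k
    let e5 : (DerivedCategory.Plus.homologyFunctor A (l : ℤ)).obj K ≅ HF l :=
      homologyRD G hG R l ≪≫ e3
    exact ⟨e1 ≪≫ e2 ≪≫ (singleIso X _ (k : ℤ)).symm ≪≫
      ((Φ Xq).shift (k : ℤ)).mapIso ((DerivedCategory.Plus.singleFunctor A 0).mapIso e5) ≪≫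
      singleIso X _ (k : ℤ) ≪≫ e4.symm ≪≫ eqToIso (by simp)⟩
  · have h1 : IsZero ((So.H (p + q)).obj (mk₁ (homOfLE (show ((q : ℤ) : EInt) ≤ ((q + 1 : ℤ) : EInt) from
          WithBotTop.coe_le_coe.2 (by lia))))) := by
      by_cases hq : 0 ≤ q
      · exact hhigh _ _ _ _ q (by lia) le_rfl
      · exact hlow _ _ _ _ (WithBotTop.coe_le_coe.2 (by lia))
    exact ⟨e1 ≪≫ h1.iso h2 ≪≫ eqToIso (by rw [if_neg hpq])⟩

end K311.HomSS
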