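import Groth.Agent.Hyper.K311.HomHyper
import Groth.Agent.Hyper.K311.HomRes
import Groth.Agent.CohtopB.RPushExt

/-!
# The object `R i F` of `D^+(PSh)` and Hom out of the free abelian presheaves on a hypercovering
-/

set_option autoImplicit false

universe w v u v' u'

open CategoryTheory Limits Opposite Simplicial Pretriangulated Triangulated
open Groth.Agent.Etrest.RDer1

noncomputable section

namespace K311.HomSheaf

open HomHyper

section generic

variable {A : Type u} [Category.{v} A] [Abelian A] [HasDerivedCategory.{w} A] [EnoughInjectives A]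
  {B : Type u'} [Category.{v'} B] [Abelian B] (G : B ⥤ A) [G.Additive]
  (hG : ∀ I : B, Injective I → Injective (G.obj I)) {F : B} (R : InjectiveResolution F)

/-- The image of the injective resolution. -/
abbrev GR : CochainComplex A ℤ := (G.mapHomologicalComplex (.up ℤ)).obj R.cochainComplex

/-- The image of an injective resolution, as a bounded below complex of injectives. -/
def Lp : CochainComplex.Plus (InjectiveObject A) :=
  ⟨HomologicalComplex.liftObjectProperty _ (GR G R)
      (fun n => hG _ inferInstance), 0, by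
    rw [← CochainComplex.isStrictlyGE_mapHomologicalComplex_obj_iff _ (InjectiveObject.ι _)]
    exact inferInstanceAs (CochainComplex.IsStrictlyGE (GR G R) 0)⟩

/-- The object `R G F` of `D^+(A)`. -/
def Y : DerivedCategory.Plus A :=
  (injD A).obj ((HomotopyCategory.Plus.quotient _).obj (Lp G hG R))

/-- The injective model of `Y`. -/
def toKY : (toK A).obj (Y G hG R) ≅ (HomotopyCategory.quotient A (.up ℤ)).obj (GR G R) :=
  toKInj ((HomotopyCategory.Plus.quotient _).obj (Lp G hG R))

/-- The homology of `Y`, in degrees in `ℤ`. -/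
def homologyZ (n : ℤ) : (DerivedCategory.Plus.homologyFunctor A n).obj (Y G hG R) ≅
    HomologicalComplex.homology (GR G R) n :=
  (DerivedCategory.homologyFunctorFactorsh A n).app ((HomotopyCategory.quotient A (.up ℤ)).obj (GR G R)) ≪≫
    (HomotopyCategory.homologyFunctorFactors A (.up ℤ) n).app (GR G R)

/-- The homology of `Y`. -/
def homologyN (n : ℕ) : (DerivedCategory.Plus.homologyFunctor A (n : ℤ)).obj (Y G hG R) ≅
    ((G.mapHomologicalComplex _).obj R.cocomplex).homology n :=
  homologyZ G hG R n ≪≫ (HomologicalComplex.homologyFunctor A (.up ℤ) (n : ℤ)).mapIso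
      (mapExtendIso ComplexShape.embeddingUpNat G R.cocomplex) ≪≫
    (((G.mapHomologicalComplex _).obj R.cocomplex).extendHomologyIso ComplexShape.embeddingUpNat
      (j := n) (j' := (n : ℤ)) rfl)

/-- The homology of `Y` is the right derived functor. -/
def homologyRD [EnoughInjectives B] (n : ℕ) :
    (DerivedCategory.Plus.homologyFunctor A (n : ℤ)).obj (Y G hG R) ≅ (G.rightDerived n).obj F :=
  homologyN G hG R n ≪≫ (R.isoRightDerivedObj G n).symm

instance isGE_Y : (Y G hG R).IsGE 0 :=
  (Groth.Agent.Etdl.H423.Amp.isGE_iff_homology _ 0).2 fun i hi => by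
    refine IsZero.of_iso ?_ (homologyZ G hG R i)
    exact ShortComplex.isZero_homology_of_isZero_X₂ _
      (CochainComplex.isZero_of_isStrictlyGE (GR G R) 0 i hi)

/-- The spectral sequence data: `Hom_{K(A)}(X, -)` on shifts of single objects. -/
def singleIso (X : CochainComplex A ℤ) [X.IsKProjective] (M : A) (p : ℤ) :
    ((Φ ((HomotopyCategory.quotient A (.up ℤ)).obj X)).shift p).obj
      ((DerivedCategory.Plus.singleFunctor A 0).obj M) ≅
    AddCommGrpCat.of (CochainComplex.HomComplex.CohomologyClass X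
      ((CochainComplex.singleFunctor A 0).obj M) p) :=
  shiftIsoInj ((HomotopyCategory.quotient A (.up ℤ)).obj X) p (L := (injectiveResolution M).cochainComplex)
      ((toK A).mapIso (resIso (injectiveResolution M)) ≪≫
        toKInj ((HomotopyCategory.Plus.quotient _).obj (resPlus (injectiveResolution M)))) ≪≫
    AddEquiv.toAddCommGrpIso ((postIso ((injectiveResolution M).ι'⟦p⟧')).symm.trans
      CochainComplex.HomComplex.CohomologyClass.homAddEquiv.symm)

open ComposableArrows K49.GrothSO K49 in
/-- `H^n(q ≤ q+1) = H^p(Hom(X, H^q K))`, `n = p + q`. -/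
theorem nonempty_E₂ (X : CochainComplex A ℤ) [X.IsKProjective] (K : DerivedCategory.Plus A)
    (n q q' : ℤ) (hq : q + 1 = q') (p : ℤ) (h : p + q = n) :
    Nonempty (((TSpec.so (tP A) (Φ ((HomotopyCategory.quotient A (.up ℤ)).obj X)) K).H n).obj
      (mk₁ (homOfLE (by subst hq; exact WithBotTop.coe_le_coe.2 (by lia) :
      ((q : ℤ) : EInt) ≤ ((q' : ℤ) : EInt)))) ≅
      AddCommGrpCat.of (CochainComplex.HomComplex.CohomologyClass X
      ((CochainComplex.singleFunctor A 0).obj ((DerivedCategory.Plus.homologyFunctor A q).obj K)) p)) := by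
  obtain ⟨e⟩ := nonempty_iso_single (((tP A).truncGE q).obj (((tP A).truncLT q').obj K)) q
    inferInstance (by
      have : (((tP A).truncLT q').obj K).IsLE q := (tP A).isLE_of_le _ (q' - 1) q (by lia)
      infer_instance)
  let Xq := (HomotopyCategory.quotient A (.up ℤ)).obj X
  exact ⟨TSpec.HInt _ _ K n q q' hq ≪≫
    ((Φ Xq).shift n).mapIso e ≪≫
    ((Φ Xq).shiftIso (-q) n p (by lia)).app _ ≪≫
    ((Φ Xq).shift p).mapIso ((DerivedCategory.Plus.singleFunctor A 0).mapIso (homologyTrunc K q q' hq)) ≪≫
    singleIso X _ p⟩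

end generic

section abut

variable {A : Type u} [Category.{v} A] [Abelian A] [HasDerivedCategory.{w} A] [EnoughInjectives A]
  {B : Type u'} [Category.{v} B] [Abelian B] [HasExt.{v} B] (G : B ⥤ A) [G.Additive]
  (hG : ∀ I : B, Injective I → Injective (G.obj I)) {F : B} (R : InjectiveResolution F)
  {F' : A ⥤ B} [F'.Additive] (adj : F' ⊣ G) (X : CochainComplex A ℤ) {Z : B}
  (s : (F'.mapHomologicalComplex (.up ℤ)).obj X ⟶ (CochainComplex.singleFunctor B 0).obj Z) [QuasiIso s]

/-- The adjunction and the resolution. -/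
def extEquiv (n : ℕ) :
    ((HomotopyCategory.quotient A (.up ℤ)).obj X ⟶
      (HomotopyCategory.quotient A (.up ℤ)).obj ((GR G R)⟦(n : ℤ)⟧)) ≃+ Abelian.Ext.{v} Z F n :=
  (congrIso _ ((HomotopyCategory.quotient A (.up ℤ)).mapIso
    (((G.mapHomologicalComplex (.up ℤ)).commShiftIso (n : ℤ)).app R.cochainComplex).symm)).trans
  (((Groth.Agent.Dcoh.DerAdj.adjHo adj (.up ℤ)).homAddEquiv
    ((HomotopyCategory.quotient A (.up ℤ)).obj X)
    ((HomotopyCategory.quotient B (.up ℤ)).obj (R.cochainComplex⟦(n : ℤ)⟧))).symm.trans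
  (((preIso (L := R.cochainComplex⟦(n : ℤ)⟧) s).symm.trans
    CochainComplex.HomComplex.CohomologyClass.homAddEquiv.symm).trans
      R.extAddEquivCohomologyClass.symm))

/-- The abutment. -/
def abutIso (n : ℕ) :
    ((Φ ((HomotopyCategory.quotient A (.up ℤ)).obj X)).shift (n : ℤ)).obj (Y G hG R) ≅
      AddCommGrpCat.of (Abelian.Ext.{v} Z F n) :=
  shiftIsoInj _ (n : ℤ) (toKY G hG R) ≪≫ AddEquiv.toAddCommGrpIso (extEquiv G R adj X s n)

end abut

end K311.HomSheaf
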