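import Groth.Agent.Hyper.K311.HomSS
import Groth.Agent.CohtopB.RPushExt
import Mathlib.CategoryTheory.Generator.Presheaf
import Mathlib.CategoryTheory.Abelian.GrothendieckAxioms.FunctorCategory
import Mathlib.CategoryTheory.Abelian.GrothendieckCategory.EnoughInjectives

/-!
# The hypercovering spectral sequence, over a site
-/

set_option autoImplicit false

universe u

open CategoryTheory Limits Opposite Simplicial Pretriangulated Triangulated
open Groth.Agent.CohtopB.HypInj Groth.Agent.CohtopB.HypRes Groth.Agent.CohtopB.LocTriv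
open Groth.Agent.CohtopB.HypSiteGlue Groth.Agent.CohtopB.ExtRD Groth.Agent.CohtopB.RPushExt
open Groth.Agent.CohtopA.FreeYo

noncomputable section

namespace K311.HypSS

open HomCechK HomSheaf HomRes HomHyper

/-- Right derived functors of isomorphic functors. -/
lemma nonempty_rightDerived_congr {A : Type*} [Category* A] [Abelian A] {B : Type*} [Category* B] [Abelian B]
    [HasInjectiveResolutions B] {G G' : B ⥤ A} [G.Additive] [G'.Additive] (e : G ≅ G') (F : B) (n : ℕ) :
    Nonempty ((G.rightDerived n).obj F ≅ (G'.rightDerived n).obj F) := by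
  let R := injectiveResolution F
  exact ⟨R.isoRightDerivedObj G n ≪≫ (HomologicalComplex.homologyFunctor _ _ n).mapIso
    ((NatIso.mapHomologicalComplex e _).app R.cocomplex) ≪≫ (R.isoRightDerivedObj G' n).symm⟩

variable {C : Type u} [SmallCategory C] (J : GrothendieckTopology C)
  (K : SimplicialObject (FormalCoproduct.{u} C))

/-- The constant sheaf `ℤ`. -/
abbrev ZJ : Sheaf J AddCommGrpCat.{u} :=
  (constantSheaf J AddCommGrpCat.{u}).obj (AddCommGrpCat.of (ULift.{u} ℤ))

/-- The augmentation. -/
def φ : (presheafToSheaf J AddCommGrpCat.{u}).obj ((PC K).X 0) ⟶ ZJ J :=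
  (presheafToSheaf J AddCommGrpCat.{u}).map (augFree (trivAugm K) ≫ Groth.Agent.S3091.freeConst.hom)

lemma wφ : (presheafToSheaf J AddCommGrpCat.{u}).map ((PC K).d 1 0) ≫ φ J K = 0 := by
  change (presheafToSheaf J AddCommGrpCat.{u}).map _ ≫ (presheafToSheaf J AddCommGrpCat.{u}).map _ = 0
  rw [← Functor.map_comp, ← Category.assoc, d_augFree, zero_comp, Functor.map_zero]

variable {J K}

lemma epi_φ (h : IsLocHyp J (trivAugm K)) : Epi (φ J K) := by
  have h1 := epi_aug h
  have h2 : Epi ((presheafToSheaf J AddCommGrpCat.{u}).mapIso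
    (Groth.Agent.S3091.freeConst (C := C))).hom := inferInstance
  rw [φ, Functor.map_comp]
  exact epi_comp' h1 h2

lemma exact_φ (h : IsLocHyp J (trivAugm K)) : (ShortComplex.mk _ _ (wφ J K)).Exact := by
  refine (ShortComplex.exact_iff_of_iso ?_).1 (exact_aug h)
  exact ShortComplex.isoMk (Iso.refl _) (Iso.refl _)
    ((presheafToSheaf J AddCommGrpCat.{u}).mapIso Groth.Agent.S3091.freeConst)
    ((Category.id_comp _).trans (Category.comp_id _).symm)
    ((Category.id_comp _).trans (Functor.map_comp _ _ _))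

lemma exactAt_SP (h : IsLocHyp J (trivAugm K)) (n : ℕ) :
    (((presheafToSheaf J AddCommGrpCat.{u}).mapHomologicalComplex (.down ℕ)).obj
      (PC K)).ExactAt (n + 1) := by
  have := exactAt_succ h n
  rwa [SC_eq] at this

lemma injective_sheafToPresheaf (I : Sheaf J AddCommGrpCat.{u}) (hI : Injective I) :
    Injective ((sheafToPresheaf J AddCommGrpCat.{u}).obj I) :=
  Injective.injective_of_adjoint (sheafificationAdjunction J AddCommGrpCat.{u}) I

lemma extPre_eq (n : ℕ) : extPre (freeShF J) n = Sheaf.cohomologyPresheafFunctor J n := by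
  unfold Sheaf.cohomologyPresheafFunctor extPre
  rfl

/-- The right derived functors of the forgetful functor to presheaves. -/
lemma nonempty_cohomologyPresheaf (F : Sheaf J AddCommGrpCat.{u}) (n : ℕ) :
    Nonempty (((sheafToPresheaf J AddCommGrpCat.{u}).rightDerived n).obj F ≅
      Sheaf.cohomologyPresheaf F n) := by
  obtain ⟨e⟩ := nonempty_rightDerived_congr (homPreFree J).symm F n
  exact ⟨e ≪≫ (extPreIso (freeShF J) n).app F ≪≫ eqToIso (congrArg (fun G => G.obj F) (extPre_eq n))⟩

theorem enoughInjectives_psh : EnoughInjectives (Cᵒᵖ ⥤ AddCommGrpCat.{u}) :=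
  have : IsGrothendieckAbelian.{u} (Cᵒᵖ ⥤ AddCommGrpCat.{u}) :=
    { ab5OfSize := ⟨fun _ _ _ => inferInstance⟩ }
  IsGrothendieckAbelian.enoughInjectives.{u}

variable (J K) in
/-- The hypercovering spectral sequence for a locally fillable simplicial object. -/
theorem exists_spectralSequence (h : IsLocHyp J (trivAugm K)) (F : Sheaf J AddCommGrpCat.{u}) :
    ∃ (E : E₂CohomologicalSpectralSequence AddCommGrpCat.{u})
      (a : SpSeq.Abutment E (fun n : ℤ => if 0 ≤ n then AddCommGrpCat.of (Sheaf.H F n.toNat) else AddCommGrpCat.of PUnit.{u + 1})),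
      (∀ n, a.IsFinite n) ∧ SpSeq.IsBounded E ∧
      ∀ p q : ℤ, Nonempty ((E.page 2 le_rfl).X (p, q) ≅
        (if 0 ≤ p ∧ 0 ≤ q then (cx K (Sheaf.cohomologyPresheaf F q.toNat)).homology p.toNat
         else AddCommGrpCat.of PUnit.{u + 1})) :=
  have := enoughInjectives_psh (C := C)
  HomSS.exists_spectralSequence (sheafToPresheaf J AddCommGrpCat.{u}) injective_sheafToPresheaf F
    (sheafificationAdjunction J AddCommGrpCat.{u}) (PC K) (φ J K) (wφ J K) (epi_φ h) (exact_φ h)
    (exactAt_SP h) (fun q => Sheaf.cohomologyPresheaf F q) (nonempty_cohomologyPresheaf F) (cx K)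
    (HomCechK.nonempty_iso K)

end K311.HypSS
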