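import Groth.Agent.Sga4A.Special
import Groth.Agent.Sga4A.LTF

/-!
# Special morphisms of coskeletal simplicial presheaves are local trivial fibrations
-/

set_option autoImplicit false

universe u

open CategoryTheory CategoryTheory.Limits Opposite Simplicial

namespace K311.PreSpecial

open Groth.Agent.Sga4A.KanPost Groth.Agent.Sga4A.LTFLift Groth.Agent.Sga4A.Special

variable {C : Type u} [SmallCategory C] {J : GrothendieckTopology C}

lemma cosk_flip (K : SimplicialObject (Cᵒᵖ ⥤ Type u)) (n : ℕ) [K.IsCoskeletal n] (U : Cᵒᵖ) :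
    Cosk n (K.flip.obj U) :=
  cosk_of_isCoskeletal (evaluationAdjunctionRight (Type u) U) K n

theorem isLTF_of_special (n : ℕ) [∀ (F : (SimplexCategory.Truncated n)ᵒᵖ ⥤ (Cᵒᵖ ⥤ Type u)),
      (SimplexCategory.Truncated.inclusion n).op.HasRightKanExtension F]
    {K L : SimplicialObject (Cᵒᵖ ⥤ Type u)} (v : K ⟶ L)
    (h1 : ∀ p : ℕ, p < n → IsIso (v.app (op (SimplexCategory.mk p))))
    (h2 : Presheaf.IsLocallySurjective J (v.app (op (SimplexCategory.mk n))))
    (h3 : IsIso ((SimplicialObject.coskAdj n).unit.app K))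
    (h4 : IsIso ((SimplicialObject.coskAdj n).unit.app L)) :
    IsLTF J ((flipFunctor _ _ _).map v) := by
  have hK : K.IsCoskeletal n := (SimplicialObject.isCoskeletal_iff_isIso K n).2 h3
  have hL : L.IsCoskeletal n := (SimplicialObject.isCoskeletal_iff_isIso L n).2 h4
  intro m U a b hab
  by_cases hmn : n < m
  · have : Fact (n < m) := ⟨hmn⟩
    refine ⟨⊤, J.top_mem U, fun V f _ => ?_⟩
    obtain ⟨c, hc⟩ := (cosk_flip K n (op V)).exists_lift (SSet.boundary.{u} m).ι
      (a ≫ (K.flip).map f.op)
    refine ⟨c, hc, ?_⟩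
    apply (cosk_flip L n (op V)).hom_ext (SSet.boundary.{u} m).ι
    have hn := ((flipFunctor _ _ _).map v).naturality f.op
    rw [← Category.assoc, hc, Category.assoc]
    refine (congrArg (fun t => a ≫ t) hn).trans ?_
    rw [← Category.assoc, hab, Category.assoc]
  · have hls : Presheaf.IsLocallySurjective J (v.app (op (SimplexCategory.mk m))) := by
      rcases (not_lt.1 hmn).lt_or_eq with h | rfl
      · have := h1 m h
        infer_instance
      · exact h2
    let y : (L.obj (op ⦋m⦌)).obj (op U) := SSet.yonedaEquiv b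
    refine ⟨Presheaf.imageSieve (v.app (op ⦋m⦌)) y, Presheaf.imageSieve_mem J (v.app (op ⦋m⦌)) (U := op U) y, ?_⟩
    rintro V f ⟨x, hx⟩
    let c : (SSet.stdSimplex.{u}.obj ⦋m⦌) ⟶ K.flip.obj (op V) := SSet.yonedaEquiv.symm x
    have hc : c ≫ ((flipFunctor _ _ _).map v).app (op V) = b ≫ (L.flip).map f.op := by
      apply SSet.yonedaEquiv.injective
      change (v.app (op ⦋m⦌)).app (op V) (SSet.yonedaEquiv c) = _
      rw [Equiv.apply_symm_apply]
      exact hx
    refine ⟨c, ?_, hc⟩
    apply boundary_hom_ext_of_injective m (((flipFunctor _ _ _).map v).app (op V))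
    · intro p hp
      have := h1 p (by omega)
      have : IsIso ((v.app (op ⦋p⦌)).app (op V)) := inferInstance
      exact ((isIso_iff_bijective _).1 this).1
    · have hn := ((flipFunctor _ _ _).map v).naturality f.op
      rw [Category.assoc, hc, Category.assoc]
      refine Eq.trans ?_ (congrArg (fun t => a ≫ t) hn).symm
      rw [← Category.assoc, ← hab, Category.assoc]
      rfl

end K311.PreSpecial
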