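import Groth.Agent.Topos.H567.Fill
import Groth.Agent.CohtopB.HypGlue

/-!
# Base change of a hypercovering along a relative hypercovering
-/

set_option autoImplicit false

universe u

open CategoryTheory CategoryTheory.Limits Opposite SimplexCategory Simplicial

namespace K311.Pull

open Groth.Agent.CohtopB Groth.Agent.CohtopB.LocTriv Groth.Agent.CohtopB.HyperSR
open Groth.Agent.CohtopB.HyperTens (Compat fillSieve csk evK facets facets_map csk_hom_ext compat_facets)
open Groth.Agent.CohtopB.HyperExist (homSieve)

section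

variable {A : Type u} [SmallCategory A] (n : ℕ)
  [∀ F : (SimplexCategory.Truncated n)ᵒᵖ ⥤ FormalCoproduct.{u} A,
      (SimplexCategory.Truncated.inclusion n).op.HasRightKanExtension F]

/-- Sections of the `n`-coskeleton in degree `n + 1` are determined by their faces. -/
lemma facets_ext {K : SimplicialObject (FormalCoproduct.{u} A)} {T : FormalCoproduct.{u} A}
    {y y' : T ⟶ (csk n K).obj (op ⦋n + 1⦌)} (h : ∀ i, facets K n y i = facets K n y' i) : y = y' := by
  apply csk_hom_ext n
  intro m hm γ
  obtain ⟨i, γ', rfl⟩ := eq_comp_δ_of_not_surjective γ (by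
    intro h
    have : Epi γ := epi_iff_surjective.2 h
    have := len_le_of_epi γ
    simp at this
    omega)
  rw [← facets_map K n y i m hm γ', ← facets_map K n y' i m hm γ', h]

/-- The map induced on coskeleta. -/
noncomputable abbrev cskMap {M L : SimplicialObject (FormalCoproduct.{u} A)} (b : M ⟶ L) : csk n M ⟶ csk n L :=
  (SimplicialObject.truncation n ⋙ SimplicialObject.Truncated.cosk n).map b

lemma cskMap_evK {M L : SimplicialObject (FormalCoproduct.{u} A)} (b : M ⟶ L) (m : ℕ) (hm : m ≤ n) :
    (cskMap n b).app (op ⦋m⦌) ≫ evK n L m hm = evK n M m hm ≫ b.app (op ⦋m⦌) :=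
  congrArg (fun z => z.app (op (⟨⦋m⦌, hm⟩ : SimplexCategory.Truncated n)))
    ((SimplicialObject.coskAdj n).counit.naturality ((SimplicialObject.truncation n).map b))

lemma facets_cskMap {M L : SimplicialObject (FormalCoproduct.{u} A)} (b : M ⟶ L)
    {T : FormalCoproduct.{u} A} (y : T ⟶ (csk n M).obj (op ⦋n + 1⦌)) (i : Fin (n + 2)) :
    facets L n (y ≫ (cskMap n b).app (op ⦋n + 1⦌)) i = facets M n y i ≫ b.app (op ⦋n⦌) := by
  rw [facets, facets, Category.assoc, Category.assoc, Category.assoc, ← cskMap_evK,
    ← NatTrans.naturality_assoc]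

lemma facets_unit (K : SimplicialObject (FormalCoproduct.{u} A))
    {T : FormalCoproduct.{u} A} (x : T ⟶ K.obj (op ⦋n + 1⦌)) (i : Fin (n + 2)) :
    facets K n (x ≫ ((SimplicialObject.coskAdj n).unit.app K).app (op ⦋n + 1⦌)) i =
      x ≫ K.map (δ i).op := by
  rw [facets, Category.assoc]
  exact congrArg (x ≫ ·) (HyperTens.unit_comp n K n le_rfl (δ i))

lemma facets_precomp (K : SimplicialObject (FormalCoproduct.{u} A))
    {T T' : FormalCoproduct.{u} A} (g : T' ⟶ T) (y : T ⟶ (csk n K).obj (op ⦋n + 1⦌)) (i : Fin (n + 2)) :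
    facets K n (g ≫ y) i = g ≫ facets K n y i := by
  rw [facets, facets, Category.assoc]

lemma exists_facets (K : SimplicialObject (FormalCoproduct.{u} A)) {T : A}
    (y : Fin (n + 2) → ((FormalCoproduct.incl A).obj T ⟶ K.obj (op ⦋n⦌))) (hy : Compat K y) :
    ∃ c : (FormalCoproduct.incl A).obj T ⟶ (csk n K).obj (op ⦋n + 1⦌), ∀ i, facets K n c i = y i := by
  have hx' : HypCosk.Compat (K ⋙ coyoneda.obj (op ((FormalCoproduct.incl.{u} A).obj T))) n y := by
    cases n with
    | zero => trivial
    | succ n => exact Groth.Agent.Topos.H567.Fill.secCompat_of_compat K hy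
  obtain ⟨c, hc⟩ := HypCosk.exists_section (HypGlue.constFamAdj T) n K y hx'
  exact ⟨c, fun i => hc i⟩

end

variable {C : Type u} [SmallCategory C] [HasPullbacks C] {J : GrothendieckTopology C} {X : C}
    [∀ (n : ℕ) (F : (SimplexCategory.Truncated n)ᵒᵖ ⥤ Limits.FormalCoproduct.{u} (Over X)),
      (SimplexCategory.Truncated.inclusion n).op.HasRightKanExtension F]

theorem isHypercovering_pullback
    {K L M P : SimplicialObject (FormalCoproduct.{u} (Over X))} (a : K ⟶ L) (b : M ⟶ L)
    (p1 : P ⟶ K) (p2 : P ⟶ M) (hP : IsPullback p1 p2 a b)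
    (hK : Hyper.IsHypercovering J X K)
    (h0 : Hyper.IsSRCovering (J.over X) (b.app (op (SimplexCategory.mk 0))))
    (hγ : ∀ (n : ℕ) (Q : FormalCoproduct.{u} (Over X))
      (q1 : Q ⟶ L.obj (op (SimplexCategory.mk (n + 1))))
      (q2 : Q ⟶ ((SimplicialObject.truncation n ⋙ SimplicialObject.Truncated.cosk n).obj M).obj
        (op (SimplexCategory.mk (n + 1))))
      (γ : M.obj (op (SimplexCategory.mk (n + 1))) ⟶ Q),
      IsPullback q1 q2 (((SimplicialObject.coskAdj n).unit.app L).app (op (SimplexCategory.mk (n + 1))))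
        (((SimplicialObject.truncation n ⋙ SimplicialObject.Truncated.cosk n).map b).app
          (op (SimplexCategory.mk (n + 1)))) →
      γ ≫ q1 = b.app (op (SimplexCategory.mk (n + 1))) →
      γ ≫ q2 = ((SimplicialObject.coskAdj n).unit.app M).app (op (SimplexCategory.mk (n + 1))) →
      Hyper.IsSRCovering (J.over X) γ) :
    Hyper.IsHypercovering J X P := by
  have hPm : ∀ m : SimplexCategoryᵒᵖ, IsPullback (p1.app m) (p2.app m) (a.app m) (b.app m) :=
    fun m => hP.map ((evaluation _ _).obj m)
  rw [Groth.Agent.Topos.H567.Fill.isHypercovering_iff_fill] at hK ⊢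
  refine ⟨fun T => ?_, fun n T y hy => ?_⟩
  · refine (J.over X).transitive (hK.1 T) _ ?_
    rintro T' g ⟨z⟩
    refine (J.over X).superset_covering ?_ ((isSRCovering_iff _).1 h0 T' (z ≫ a.app _))
    rintro T'' h ⟨m, hm⟩
    exact ⟨(hPm _).lift ((FormalCoproduct.incl _).map h ≫ z) m (by rw [hm, Category.assoc])⟩
  · have hy1 : Compat K (fun i => y i ≫ p1.app (op ⦋n⦌)) := by
      intro i j m hm β β' h
      rw [Category.assoc, Category.assoc, ← NatTrans.naturality, ← NatTrans.naturality, ← Category.assoc,
        ← Category.assoc, hy i j m hm β β' h]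
    have hy2 : Compat M (fun i => y i ≫ p2.app (op ⦋n⦌)) := by
      intro i j m hm β β' h
      rw [Category.assoc, Category.assoc, ← NatTrans.naturality, ← NatTrans.naturality, ← Category.assoc,
        ← Category.assoc, hy i j m hm β β' h]
    obtain ⟨c, hc⟩ := exists_facets n M _ hy2
    refine (J.over X).transitive (hK.2 n T _ hy1) _ ?_
    rintro T' g ⟨z, hz⟩
    let uL := ((SimplicialObject.coskAdj n).unit.app L).app (op (SimplexCategory.mk (n + 1)))
    let uM := ((SimplicialObject.coskAdj n).unit.app M).app (op (SimplexCategory.mk (n + 1)))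
    let cb := ((SimplicialObject.truncation n ⋙ SimplicialObject.Truncated.cosk n).map b).app
          (op (SimplexCategory.mk (n + 1)))
    have hnat : b.app (op (SimplexCategory.mk (n + 1))) ≫ uL = uM ≫ cb :=
      congrArg (fun z => z.app (op (SimplexCategory.mk (n + 1))))
        ((SimplicialObject.coskAdj n).unit.naturality b)
    have sq := IsPullback.of_hasPullback uL cb
    let γ := sq.lift (b.app (op (SimplexCategory.mk (n + 1)))) uM hnat
    have hγ' := hγ n _ _ _ γ sq (sq.lift_fst _ _ _) (sq.lift_snd _ _ _)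
    have hq : (z ≫ a.app (op ⦋n + 1⦌)) ≫ uL = ((FormalCoproduct.incl _).map g ≫ c) ≫ cb := by
      apply facets_ext n
      intro i
      have e1 := facets_unit n L (z ≫ a.app (op ⦋n + 1⦌)) i
      have e2 := facets_cskMap n b ((FormalCoproduct.incl _).map g ≫ c) i
      refine e1.trans (Eq.trans ?_ e2.symm)
      rw [facets_precomp, hc, Category.assoc, ← NatTrans.naturality, ← Category.assoc, hz i,
        Category.assoc, Category.assoc, Category.assoc, Category.assoc, (hPm _).w]
    refine (J.over X).superset_covering ?_ ((isSRCovering_iff γ).1 hγ' T' (sq.lift _ _ hq))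
    rintro T'' h ⟨m, hm⟩
    have hm1 : m ≫ b.app (op ⦋n + 1⦌) = (FormalCoproduct.incl _).map h ≫ z ≫ a.app (op ⦋n + 1⦌) := by
      have := congrArg (fun t => t ≫ pullback.fst uL cb) hm
      simpa only [Category.assoc, γ, sq.lift_fst] using this
    have hm2 : m ≫ uM = (FormalCoproduct.incl _).map h ≫ (FormalCoproduct.incl _).map g ≫ c := by
      have := congrArg (fun t => t ≫ pullback.snd uL cb) hm
      simpa only [Category.assoc, γ, sq.lift_snd] using this
    refine ⟨(hPm _).lift ((FormalCoproduct.incl _).map h ≫ z) m (by rw [hm1, Category.assoc]),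
      fun i => ?_⟩
    apply (hPm _).hom_ext
    · rw [Category.assoc, NatTrans.naturality, IsPullback.lift_fst_assoc, Category.assoc, hz i,
        Functor.map_comp, Category.assoc, Category.assoc]
    · rw [Category.assoc, NatTrans.naturality, IsPullback.lift_snd_assoc]
      have e1 := facets_unit n M m i
      rw [← e1]
      refine (congrArg (fun t => facets M n t i) hm2).trans ?_
      rw [facets_precomp, facets_precomp, hc, Functor.map_comp, Category.assoc, Category.assoc]

end K311.Pull
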