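import Groth.Agent.CohtopB.HypSiteGlue
import Groth.Agent.CohtopB.HypGlue

/-!
# Covering morphisms of formal coproducts and local surjectivity on coproducts of representables

* `isLocallySurjective_yoneda_map_iff`: `F(K) → F(L)` is locally surjective iff `K ⟶ L` is a covering morphism.
* `isHypercoveringSite_of_isLocHyp`-type criterion: `isHypercoveringSite_of`.
-/

set_option autoImplicit false

universe u

open CategoryTheory CategoryTheory.Limits Opposite Simplicial

namespace K311.Site

open Groth.Agent.CohtopB Groth.Agent.CohtopB.LocTriv Groth.Agent.CohtopB.HyperSR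

variable {C : Type u} [SmallCategory C] {J : GrothendieckTopology C}

/-- Local surjectivity of the map of coproducts of representables is the covering condition. -/
theorem isLocallySurjective_yoneda_map_iff {K L : FormalCoproduct.{u} C} (f : K ⟶ L) :
    Presheaf.IsLocallySurjective J (FormalCoproduct.yoneda.map f) ↔ Hyper.IsSRCovering J f := by
  constructor
  · intro hf
    rw [isSRCovering_iff]
    intro V y
    obtain ⟨S, hS, h⟩ := HypSiteGlue.loc_lift f hf y
    exact J.superset_covering (fun W g hg => h g hg) hS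
  · intro hf
    refine ⟨fun {U} s => ?_⟩
    refine J.superset_covering ?_ ((isSRCovering_iff f).1 hf U (HypSec.secEquiv L U s))
    rintro W g ⟨z, hz⟩
    refine ⟨(HypSec.secEquiv K W).symm z, ?_⟩
    apply (HypSec.secEquiv L W).injective
    rw [HypSec.secEquiv_map, Equiv.apply_symm_apply, hz]
    exact (HypSec.secEquiv_res g s).symm

lemma prod_ext {P Q : Cᵒᵖ ⥤ Type u} {V : Cᵒᵖ} {s t : (P ⨯ Q).obj V}
    (h1 : (prod.fst : P ⨯ Q ⟶ P).app V s = (prod.fst : P ⨯ Q ⟶ P).app V t)
    (h2 : (prod.snd : P ⨯ Q ⟶ Q).app V s = (prod.snd : P ⨯ Q ⟶ Q).app V t) : s = t := by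
  obtain ⟨V⟩ := V
  apply yonedaEquiv.symm.injective
  apply prod.hom_ext
  · apply yonedaEquiv.injective
    rw [yonedaEquiv_comp, yonedaEquiv_comp, Equiv.apply_symm_apply, Equiv.apply_symm_apply]
    exact h1
  · apply yonedaEquiv.injective
    rw [yonedaEquiv_comp, yonedaEquiv_comp, Equiv.apply_symm_apply, Equiv.apply_symm_apply]
    exact h2

/-- A criterion for Verdier hypercoverings. -/
theorem isHypercoveringSite_of (K : SimplicialObject (FormalCoproduct.{u} C))
    [∀ (n : ℕ) (F : (SimplexCategory.Truncated n)ᵒᵖ ⥤ FormalCoproduct.{u} C),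
      (SimplexCategory.Truncated.inclusion n).op.HasRightKanExtension F]
    (h : IsLocHyp J (HypGlue.augPt K))
    (hK : ∀ n, Hyper.IsSRCovering J
      (((SimplicialObject.coskAdj n).unit.app K).app (op ⦋n + 1⦌))) :
    Hyper.IsHypercoveringSite J K := by
  refine ⟨⟨fun {U} s => ?_⟩, ⟨fun {U} s => ?_⟩, fun n _ =>
    (isLocallySurjective_yoneda_map_iff _).2 (hK n)⟩
  · obtain ⟨S, hS, h⟩ := h.zero (V := U) PUnit.unit
    refine J.superset_covering (fun W g hg => ?_) hS
    obtain ⟨z, -⟩ := h g hg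
    refine ⟨(HypSec.secEquiv _ W).symm z, ?_⟩
    apply yonedaEquiv.symm.injective
    exact terminalIsTerminal.hom_ext _ _
  · obtain ⟨S, hS, h⟩ := h.one (V := U)
      (HypSec.secEquiv _ U ((prod.snd : FormalCoproduct.yoneda.{u}.obj (K _⦋0⦌) ⨯ FormalCoproduct.yoneda.{u}.obj (K _⦋0⦌) ⟶ _).app (op U) s))
      (HypSec.secEquiv _ U ((prod.fst : FormalCoproduct.yoneda.{u}.obj (K _⦋0⦌) ⨯ FormalCoproduct.yoneda.{u}.obj (K _⦋0⦌) ⟶ _).app (op U) s)) rfl
    refine J.superset_covering (fun W g hg => ?_) hS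
    obtain ⟨z, hz0, hz1⟩ := h g hg
    refine ⟨(HypSec.secEquiv _ W).symm z, ?_⟩
    apply prod_ext
    · have h1 : prod.lift (FormalCoproduct.yoneda.map (K.δ (1 : Fin 2)))
          (FormalCoproduct.yoneda.map (K.δ (0 : Fin 2))) ≫ prod.fst =
          FormalCoproduct.yoneda.map (K.δ (1 : Fin 2)) := prod.lift_fst _ _
      refine (ConcreteCategory.congr_hom (NatTrans.congr_app h1 (op W)) _).trans ?_
      refine Eq.trans ?_ (ConcreteCategory.congr_hom ((prod.fst : FormalCoproduct.yoneda.{u}.obj (K _⦋0⦌) ⨯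
        FormalCoproduct.yoneda.{u}.obj (K _⦋0⦌) ⟶ _).naturality g.op) s).symm
      apply (HypSec.secEquiv _ W).injective
      rw [HypSec.secEquiv_map, Equiv.apply_symm_apply, hz1]
      exact (HypSec.secEquiv_res g _).symm
    · have h1 : prod.lift (FormalCoproduct.yoneda.map (K.δ (1 : Fin 2)))
          (FormalCoproduct.yoneda.map (K.δ (0 : Fin 2))) ≫ prod.snd =
          FormalCoproduct.yoneda.map (K.δ (0 : Fin 2)) := prod.lift_snd _ _
      refine (ConcreteCategory.congr_hom (NatTrans.congr_app h1 (op W)) _).trans ?_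
      refine Eq.trans ?_ (ConcreteCategory.congr_hom ((prod.snd : FormalCoproduct.yoneda.{u}.obj (K _⦋0⦌) ⨯
        FormalCoproduct.yoneda.{u}.obj (K _⦋0⦌) ⟶ _).naturality g.op) s).symm
      apply (HypSec.secEquiv _ W).injective
      rw [HypSec.secEquiv_map, Equiv.apply_symm_apply, hz0]
      exact (HypSec.secEquiv_res g _).symm

end K311.Site
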