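import Groth.Agent.Hyper.K311.Site
import Groth.Agent.Topos.H567.Refine

/-!
# Presheaf maps onto a coproduct of representables, refined by formal coproducts
-/

set_option autoImplicit false

universe u

open CategoryTheory CategoryTheory.Limits Opposite Simplicial

namespace K311.SurjRefine

open Groth.Agent.CohtopB Groth.Agent.CohtopB.LocTriv Groth.Agent.CohtopB.HyperSR

variable {C : Type u} [SmallCategory C] {J : GrothendieckTopology C}

/-- All sections of a presheaf, as a formal coproduct. -/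
def elts (P : Cᵒᵖ ⥤ Type u) : FormalCoproduct.{u} C where
  I := Σ A : C, P.obj (op A)
  obj i := i.1

/-- The tautological map from the coproduct of representables. -/
noncomputable def eltsHom (P : Cᵒᵖ ⥤ Type u) : FormalCoproduct.yoneda.obj (elts P) ⟶ P :=
  Sigma.desc (fun i : (elts P).I => yonedaEquiv.symm i.2)

lemma ι_eltsHom (P : Cᵒᵖ ⥤ Type u) (i : (elts P).I) :
    HypSec.ι (elts P) i ≫ eltsHom P = yonedaEquiv.symm i.2 :=
  Sigma.ι_desc _ _

lemma eltsHom_surjective (P : Cᵒᵖ ⥤ Type u) {A : C} (t : P.obj (op A)) :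
    ∃ s, (eltsHom P).app (op A) s = t := by
  refine ⟨(HypSec.ι (elts P) ⟨A, t⟩).app (op A) (𝟙 A), ?_⟩
  have h := ConcreteCategory.congr_hom (NatTrans.congr_app (ι_eltsHom P ⟨A, t⟩) (op A)) (𝟙 A)
  exact h.trans (yonedaEquiv.apply_symm_apply t)

/-- Any map from a coproduct of representables to a coproduct of representables comes from formal coproducts. -/
lemma exists_map_eq {Z L : FormalCoproduct.{u} C}
    (φ : FormalCoproduct.yoneda.obj Z ⟶ FormalCoproduct.yoneda.obj L) :
    ∃ v : Z ⟶ L, FormalCoproduct.yoneda.map v = φ := by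
  let x : ∀ i : Z.I, (FormalCoproduct.incl C).obj (Z.obj i) ⟶ L := fun i =>
    HypSec.secEquiv L (Z.obj i) (φ.app (op (Z.obj i)) ((HypSec.ι Z i).app (op (Z.obj i)) (𝟙 _)))
  refine ⟨⟨fun i => (x i).f PUnit.unit, fun i => (x i).φ PUnit.unit⟩, ?_⟩
  refine HypSec.hom_ext' (fun i => ?_)
  rw [HypSec.ι_map]
  apply yonedaEquiv.injective
  rw [yonedaEquiv_comp, yonedaEquiv_comp]
  apply (HypSec.secEquiv L (Z.obj i)).injective
  refine Eq.trans ?_ (rfl : x i = _)
  have h := ConcreteCategory.congr_hom (NatTrans.congr_app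
    (HypSec.ι_isoObj_hom L ((x i).f PUnit.unit)) (op (Z.obj i))) ((x i).φ PUnit.unit)
  refine Eq.trans (congrArg (fun t => HypSec.secEquiv L (Z.obj i)
    ((HypSec.ι L ((x i).f PUnit.unit)).app (op (Z.obj i)) t)) (yonedaEquiv_yoneda_map _)) (h.trans ?_)
  rfl

theorem exists_refinement {X : C} [HasPullbacks C]
    [∀ (n : ℕ) (F : (SimplexCategory.Truncated n)ᵒᵖ ⥤ FormalCoproduct.{u} (Over X)),
      (SimplexCategory.Truncated.inclusion n).op.HasRightKanExtension F]
    (K : SimplicialObject (FormalCoproduct.{u} (Over X))) (hK : Hyper.IsHypercovering J X K) (n : ℕ)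
    (P : (Over X)ᵒᵖ ⥤ Type u) (w : P ⟶ FormalCoproduct.yoneda.obj (K.obj (op (SimplexCategory.mk n))))
    (hw : Presheaf.IsLocallySurjective (J.over X) w) :
    ∃ (L : SimplicialObject (FormalCoproduct.{u} (Over X))) (f : L ⟶ K)
      (g : FormalCoproduct.yoneda.obj (L.obj (op (SimplexCategory.mk n))) ⟶ P),
      Hyper.IsHypercovering J X L ∧ g ≫ w = FormalCoproduct.yoneda.map (f.app (op (SimplexCategory.mk n))) := by
  obtain ⟨v, hv⟩ := exists_map_eq (eltsHom P ≫ w)
  have hq : Presheaf.IsLocallySurjective (J.over X) (eltsHom P) := by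
    refine ⟨fun {U} s => ?_⟩
    refine (J.over X).superset_covering ?_ ((J.over X).top_mem U)
    rintro W g -
    obtain ⟨t, ht⟩ := eltsHom_surjective P (P.map g.op s)
    exact ⟨t, ht⟩
  have hv' : Hyper.IsSRCovering (J.over X) v := by
    rw [← Site.isLocallySurjective_yoneda_map_iff, hv]
    infer_instance
  obtain ⟨L, f, g, hL, hg⟩ := Groth.Agent.Topos.H567.Refine.exists_refinement K hK n _ v hv'
  refine ⟨L, f, FormalCoproduct.yoneda.map g ≫ eltsHom P, hL, ?_⟩
  rw [Category.assoc, ← hv, ← Functor.map_comp, hg]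

end K311.SurjRefine
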